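/-
helper479: task 1959 (S4384, helper585), the row `PSL₂(q)`: the group `PSL₂(8)`.
-/
import Mathlib
import Cfsg.Agent.H465.SpArith
import Cfsg.Agent.Lib.Cores
import Cfsg.Agent.S0044

set_option autoImplicit false

namespace Cfsg.Agent.H479.GoodEight

open Subgroup MulAction

/-- a nontrivial finite solvable group has a nontrivial normal `r`-subgroup for some prime `r` -/
theorem exists_pCore {G : Type*} [Group G] [Finite G] [Nontrivial G] (hs : Group.IsSolvable G) :
    ∃ r : ℕ, r.Prime ∧ Cfsg.pCore r G ≠ ⊥ := by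
  by_contra hcon
  push Not at hcon
  have h1 : Cfsg.fittingSubgroup G = ⊥ := by
    rw [Cfsg.Agent.Lib.Cores.fittingSubgroup_eq_iSup_pCore, eq_bot_iff]
    exact iSup_le fun p => (hcon p p.2).le
  have h2 := Cfsg.Agent.S0044.result (G := G)
  rw [h1] at h2
  have h3 : (⊤ : Subgroup G) ≤ ⊥ := by
    intro x _
    refine h2 (Subgroup.mem_centralizer_iff.mpr ?_)
    intro y hy
    rw [SetLike.mem_coe, Subgroup.mem_bot] at hy
    rw [hy, one_mul, mul_one]
  exact bot_ne_top (le_antisymm bot_le h3)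

/-- The properties of `PSL₂(8)` which are used. -/
structure E8 (K : Type*) [Group K] : Prop where
  card : Nat.card K = 504
  syl : ∀ P : Sylow 2 K, Nat.card P = 8
  num : Nat.card (Sylow 2 K) = 9
  TI : ∀ (P Q : Sylow 2 K) (x : K), x ≠ 1 → x ∈ (P : Subgroup K) → x ∈ (Q : Subgroup K) → P = Q

variable {K : Type*} [Group K] [Finite K]

instance fact2 : Fact (Nat.Prime 2) := ⟨Nat.prime_two⟩
instance fact7 : Fact (Nat.Prime 7) := ⟨by norm_num⟩

omit [Finite K] in
theorem conj_smul (s : K) (P : Sylow 2 K) : MulAut.conj s • P = s • P := rfl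

omit [Finite K] in
theorem aut_smul (β : MulAut K) (s : K) (P : Sylow 2 K) : β • (s • P) = (β s) • (β • P) := by
  rw [← conj_smul, ← conj_smul, ← mul_smul, ← mul_smul]
  congr 1
  ext t
  simp [MulAut.mul_apply, MulAut.conj_apply]

omit [Finite K] in
theorem mem_aut_smul (β : MulAut K) (P : Sylow 2 K) (x : K) :
    β x ∈ ((β • P : Sylow 2 K) : Subgroup K) ↔ x ∈ (P : Subgroup K) := by
  rw [Sylow.pointwise_smul_def, Subgroup.mem_pointwise_smul_iff_inv_smul_mem]
  have : β⁻¹ • β x = x := by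
    rw [MulAut.smul_def, MulAut.inv_apply_self]
  rw [this]

omit [Finite K] in
/-- A `2`-element fixing `Q` is in `Q`. -/
theorem mem_of_fix {P Q : Sylow 2 K} {x : K} (hx : x ∈ (P : Subgroup K)) (h : x • Q = Q) :
    x ∈ (Q : Subgroup K) := by
  have h1 : x ∈ normalizer (Q : Set K) := Sylow.smul_eq_iff_mem_normalizer.1 h
  have h2 : IsPGroup 2 (zpowers x) := P.isPGroup'.to_le (zpowers_le.2 hx)
  have h3 := h2.inf_normalizer_sylow Q
  have h4 : x ∈ zpowers x ⊓ normalizer (Q : Set K) := ⟨mem_zpowers x, h1⟩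
  rw [h3] at h4
  exact h4.2

omit [Finite K] in
theorem E8.semireg (H : E8 K) {P Q : Sylow 2 K} (hPQ : P ≠ Q) {x : K} (hx : x ∈ (P : Subgroup K))
    (h : x • Q = Q) : x = 1 := by
  by_contra hx1
  exact hPQ (H.TI P Q x hx1 hx (mem_of_fix hx h))

omit [Finite K] in
theorem fixself {P : Sylow 2 K} {x : K} (hx : x ∈ (P : Subgroup K)) : x • P = P :=
  Sylow.smul_eq_iff_mem_normalizer.2 (le_normalizer hx)

theorem E8.card_ne (H : E8 K) (P : Sylow 2 K) : Nat.card {Q : Sylow 2 K // Q ≠ P} = 8 := by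
  classical
  have : Fintype (Sylow 2 K) := Fintype.ofFinite _
  have h1 := H.num
  rw [Nat.card_eq_fintype_card] at h1 ⊢
  rw [Fintype.card_subtype_compl, h1, Fintype.card_unique]

theorem E8.trans (H : E8 K) {P Q Q' : Sylow 2 K} (h : Q ≠ P) (h' : Q' ≠ P) :
    ∃ x ∈ (P : Subgroup K), x • Q = Q' := by
  classical
  have : Fintype (Sylow 2 K) := Fintype.ofFinite _
  let f : P → {Q : Sylow 2 K // Q ≠ P} := fun x => ⟨(x : K) • Q, fun h1 => by
    apply h
    have h2 : (x : K) • Q = (x : K) • P := by rw [h1, fixself x.2]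
    exact smul_left_cancel _ h2⟩
  have hf : Function.Injective f := by
    intro x y hxy
    have h1 : (x : K) • Q = (y : K) • Q := congrArg Subtype.val hxy
    have h2 : ((y : K)⁻¹ * x) • Q = Q := by rw [mul_smul, h1, inv_smul_smul]
    have h3 := H.semireg (Ne.symm h) (mul_mem (inv_mem y.2) x.2) h2
    exact (Subtype.ext (inv_mul_eq_one.1 h3)).symm
  have hb : Function.Bijective f := by
    rw [Nat.bijective_iff_injective_and_card]
    exact ⟨hf, by rw [H.card_ne P]; exact H.syl P⟩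
  obtain ⟨x, hx⟩ := hb.2 ⟨Q', h'⟩
  exact ⟨x, x.2, congrArg Subtype.val hx⟩

/-- the stabilizer of two points -/
def st (P Q : Sylow 2 K) : Subgroup K := stabilizer K P ⊓ stabilizer K Q

omit [Finite K] in
theorem mem_st {P Q : Sylow 2 K} {s : K} : s ∈ st P Q ↔ s • P = P ∧ s • Q = Q := Iff.rfl

theorem E8.card_st (H : E8 K) {P Q : Sylow 2 K} (h : P ≠ Q) : Nat.card (st P Q) = 7 := by
  have h1 : (stabilizer K P).index = 9 := by
    rw [index_stabilizer_of_transitive, H.num]
  have h2 : Nat.card (stabilizer K P) = 56 := by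
    have h3 := card_mul_index (stabilizer K P)
    rw [h1, H.card] at h3
    omega
  let f : ↥(P : Subgroup K) × ↥(st P Q) → stabilizer K P := fun z =>
    ⟨(z.1 : K) * z.2, mul_mem (mem_stabilizer_iff.2 (fixself z.1.2)) z.2.2.1⟩
  have hf : Function.Bijective f := by
    constructor
    · rintro ⟨x, s⟩ ⟨x', s'⟩ hxy
      have h3 : (x : K) * s = x' * s' := congrArg Subtype.val hxy
      have h4 : (x' : K)⁻¹ * x = s' * (s : K)⁻¹ := by
        rw [inv_mul_eq_iff_eq_mul, ← mul_assoc, ← h3]; group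
      have h5 : ((x' : K)⁻¹ * x) • Q = Q := by
        rw [h4]
        exact (mem_st.1 (mul_mem s'.2 (inv_mem s.2))).2
      have h6 := H.semireg h (mul_mem (inv_mem x'.2) x.2) h5
      have h7 : x = x' := Subtype.ext (inv_mul_eq_one.1 h6).symm
      subst h7
      exact Prod.ext rfl (Subtype.ext (mul_left_cancel h3))
    · rintro ⟨n, hn⟩
      have hn' : n • P = P := hn
      obtain ⟨x, hx, hxQ⟩ := H.trans (P := P) (Q := Q) (Q' := n • Q) (Ne.symm h) (fun h3 => by
        rw [← hn'] at h3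
        exact h (smul_left_cancel _ h3).symm)
      refine ⟨⟨⟨x, hx⟩, ⟨x⁻¹ * n, ?_⟩⟩, Subtype.ext ?_⟩
      · rw [mem_st, mul_smul, mul_smul, hn', ← hxQ, inv_smul_smul]
        exact ⟨(inv_smul_eq_iff).2 (fixself hx).symm, rfl⟩
      · change x * (x⁻¹ * n) = n
        group
  have h3 := Nat.card_congr (Equiv.ofBijective f hf)
  rw [Nat.card_prod, h2] at h3
  have h4 : Nat.card (P : Subgroup K) = 8 := H.syl P
  rw [h4] at h3
  omega

theorem E8.order_st (H : E8 K) {P Q : Sylow 2 K} (h : P ≠ Q) {s : K} (hs : s ∈ st P Q) (hs1 : s ≠ 1) :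
    orderOf s = 7 := by
  have h1 : orderOf s ∣ 7 := by rw [← H.card_st h]; exact Subgroup.orderOf_dvd_natCard _ hs
  rcases (Nat.dvd_prime (by norm_num : Nat.Prime 7)).1 h1 with h2 | h2
  · exact absurd (orderOf_eq_one_iff.1 h2) hs1
  · exact h2

theorem E8.nontriv (H : E8 K) : ∃ P Q : Sylow 2 K, P ≠ Q := by
  have h1 : 1 < Nat.card (Sylow 2 K) := by rw [H.num]; norm_num
  have := Finite.one_lt_card_iff_nontrivial.1 h1
  exact exists_pair_ne _

theorem E8.faithful [IsSimpleGroup K] (H : E8 K) {γ : MulAut K} (h : ∀ P : Sylow 2 K, γ • P = P) : γ = 1 := by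
  have hker : (MulAction.toPermHom K (Sylow 2 K)).ker = ⊥ := by
    rcases (inferInstance : (MulAction.toPermHom K (Sylow 2 K)).ker.Normal).eq_bot_or_eq_top with h1 | h1
    · exact h1
    · exfalso
      obtain ⟨P, Q, hPQ⟩ := H.nontriv
      obtain ⟨g, hg⟩ := MulAction.exists_smul_eq K P Q
      have h2 : g ∈ (MulAction.toPermHom K (Sylow 2 K)).ker := by rw [h1]; trivial
      have h3 : g • P = P := DFunLike.congr_fun (MonoidHom.mem_ker.1 h2) P
      exact hPQ (h3.symm.trans hg)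
  ext x
  have h1 : x⁻¹ * γ x ∈ (MulAction.toPermHom K (Sylow 2 K)).ker := by
    rw [MonoidHom.mem_ker]
    ext1 P
    change (x⁻¹ * γ x) • P = P
    have h2 := aut_smul γ x P
    rw [h, h] at h2
    rw [mul_smul, ← h2, inv_smul_smul]
  rw [hker, mem_bot, inv_mul_eq_one] at h1
  exact h1.symm

theorem E8.faithful' [IsSimpleGroup K] (H : E8 K) {s : K} (h : ∀ P : Sylow 2 K, s • P = P) : s = 1 := by
  have hker : (MulAction.toPermHom K (Sylow 2 K)).ker = ⊥ := by
    rcases (inferInstance : (MulAction.toPermHom K (Sylow 2 K)).ker.Normal).eq_bot_or_eq_top with h1 | h1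
    · exact h1
    · exfalso
      obtain ⟨P, Q, hPQ⟩ := H.nontriv
      obtain ⟨g, hg⟩ := MulAction.exists_smul_eq K P Q
      have h2 : g ∈ (MulAction.toPermHom K (Sylow 2 K)).ker := by rw [h1]; trivial
      have h3 : g • P = P := DFunLike.congr_fun (MonoidHom.mem_ker.1 h2) P
      exact hPQ (h3.symm.trans hg)
  have h1 : s ∈ (MulAction.toPermHom K (Sylow 2 K)).ker := by
    rw [MonoidHom.mem_ker]
    ext1 P
    exact h P
  rwa [hker, mem_bot] at h1

theorem E8.fix2 [IsSimpleGroup K] (H : E8 K) {s : K} (hs : orderOf s = 7) {P Q : Sylow 2 K} (hPQ : P ≠ Q)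
    (hP : s • P = P) (hQ : s • Q = Q) {R : Sylow 2 K} (hR : s • R = R) : R = P ∨ R = Q := by
  by_contra hcon
  push Not at hcon
  have hz : IsPGroup 7 (zpowers s) := IsPGroup.of_card (n := 1) (by rw [Nat.card_zpowers, hs, pow_one])
  have h1 := hz.card_modEq_card_fixedPoints (Sylow 2 K)
  rw [H.num] at h1
  have hmem : ∀ X : Sylow 2 K, s • X = X → X ∈ fixedPoints (zpowers s) (Sylow 2 K) := by
    rintro X hX ⟨t, ht⟩
    obtain ⟨i, rfl⟩ := mem_zpowers_iff.1 ht
    have h2 : s ∈ stabilizer K X := hX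
    exact zpow_mem h2 i
  have h3 : 3 ≤ Nat.card (fixedPoints (zpowers s) (Sylow 2 K)) := by
    have h4 : ({P, Q, R} : Set (Sylow 2 K)).ncard = 3 :=
      Set.ncard_eq_three.2 ⟨P, Q, R, hPQ, Ne.symm hcon.1, Ne.symm hcon.2, rfl⟩
    rw [← h4]
    refine Set.ncard_le_ncard ?_ (Set.toFinite _)
    rintro X (rfl | rfl | rfl)
    · exact hmem _ hP
    · exact hmem _ hQ
    · exact hmem _ hR
  have h5 : Nat.card (fixedPoints (zpowers s) (Sylow 2 K)) ≤ 9 := by
    rw [← H.num]
    exact Nat.card_le_card_of_injective (Subtype.val : fixedPoints (zpowers s) (Sylow 2 K) → _) Subtype.val_injective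
  have h6 : Nat.card (fixedPoints (zpowers s) (Sylow 2 K)) = 9 := by
    have h7 : 9 % 7 = Nat.card (fixedPoints (zpowers s) (Sylow 2 K)) % 7 := h1
    omega
  have h7 : Function.Bijective (Subtype.val : fixedPoints (zpowers s) (Sylow 2 K) → Sylow 2 K) := by
    rw [Nat.bijective_iff_injective_and_card]
    exact ⟨Subtype.val_injective, by rw [h6, H.num]⟩
  have h8 : s = 1 := H.faithful' fun X => by
    obtain ⟨⟨Y, hY⟩, rfl⟩ := h7.2 X
    exact hY ⟨s, mem_zpowers s⟩
  rw [h8, orderOf_one] at hs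
  omega

theorem E8.trans2 [IsSimpleGroup K] (H : E8 K) {P Q R R' : Sylow 2 K} (hPQ : P ≠ Q) (h1 : R ≠ P) (h2 : R ≠ Q)
    (h1' : R' ≠ P) (h2' : R' ≠ Q) : ∃ s ∈ st P Q, s • R = R' := by
  classical
  have : Fintype (Sylow 2 K) := Fintype.ofFinite _
  let f : st P Q → {X : Sylow 2 K // X ≠ P ∧ X ≠ Q} := fun s => ⟨(s : K) • R, fun h3 => h1 (by
      have h4 : (s : K) • R = (s : K) • P := by rw [h3, (mem_st.1 s.2).1]
      exact smul_left_cancel _ h4), fun h3 => h2 (by
      have h4 : (s : K) • R = (s : K) • Q := by rw [h3, (mem_st.1 s.2).2]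
      exact smul_left_cancel _ h4)⟩
  have hf : Function.Injective f := by
    intro x y hxy
    have h3 : (x : K) • R = (y : K) • R := congrArg Subtype.val hxy
    have h4 : ((y : K)⁻¹ * x) • R = R := by rw [mul_smul, h3, inv_smul_smul]
    have h5 : (y : K)⁻¹ * x ∈ st P Q := mul_mem (inv_mem y.2) x.2
    by_cases h6 : (y : K)⁻¹ * x = 1
    · exact (Subtype.ext (inv_mul_eq_one.1 h6)).symm
    · rcases H.fix2 (H.order_st hPQ h5 h6) hPQ (mem_st.1 h5).1 (mem_st.1 h5).2 h4 with h7 | h7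
      · exact absurd h7 h1
      · exact absurd h7 h2
  have hc : Nat.card {X : Sylow 2 K // X ≠ P ∧ X ≠ Q} = 7 := by
    have h3 : Fintype.card (Sylow 2 K) = 9 := by rw [← Nat.card_eq_fintype_card, H.num]
    rw [Nat.card_eq_fintype_card, Fintype.card_subtype]
    have h4 : (Finset.univ.filter fun X : Sylow 2 K => X ≠ P ∧ X ≠ Q) = (Finset.univ.erase P).erase Q := by
      ext X
      simp [and_comm]
    rw [h4, Finset.card_erase_of_mem (by simp [Ne.symm hPQ]), Finset.card_erase_of_mem (by simp), Finset.card_univ, h3]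
  have hb : Function.Bijective f := by
    rw [Nat.bijective_iff_injective_and_card]
    exact ⟨hf, by rw [hc, H.card_st hPQ]⟩
  obtain ⟨s, hs⟩ := hb.2 ⟨R', h1', h2'⟩
  exact ⟨s, s.2, congrArg Subtype.val hs⟩

theorem E8.pick (H : E8 K) (S : List (Sylow 2 K)) (hS : S.length < 9) : ∃ P, P ∉ S := by
  classical
  have : Fintype (Sylow 2 K) := Fintype.ofFinite _
  by_contra hcon
  push Not at hcon
  have h1 : (Finset.univ : Finset (Sylow 2 K)) ⊆ S.toFinset := fun P _ => List.mem_toFinset.2 (hcon P)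
  have h2 := (Finset.card_le_card h1).trans (List.toFinset_card_le S)
  rw [Finset.card_univ, ← Nat.card_eq_fintype_card, H.num] at h2
  omega

/-- A non-trivial automorphism moves two points `a`, `b` out of `{a, b}`. -/
theorem E8.exists_pair [IsSimpleGroup K] (H : E8 K) {β : MulAut K} (hβ : β ≠ 1) :
    ∃ a b : Sylow 2 K, a ≠ b ∧ β • a ≠ a ∧ β • a ≠ b ∧ β • b ≠ a ∧ β • b ≠ b := by
  obtain ⟨a, ha⟩ : ∃ a : Sylow 2 K, β • a ≠ a := by
    by_contra hcon
    push Not at hcon
    exact hβ (H.faithful hcon)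
  by_contra hcon
  push Not at hcon
  have hfix : ∀ b, b ∉ [a, β • a, β⁻¹ • a] → β • b = b := by
    intro b hb
    simp only [List.mem_cons, List.not_mem_nil, or_false, not_or] at hb
    exact hcon a b (Ne.symm hb.1) ha (Ne.symm hb.2.1) (fun h => hb.2.2 (by rw [← h, inv_smul_smul]))
  obtain ⟨c, hc⟩ := H.pick [a, β • a, β⁻¹ • a] (by simp)
  obtain ⟨d, hd⟩ := H.pick (c :: [a, β • a, β⁻¹ • a]) (by simp)
  obtain ⟨x, hx⟩ := H.pick (d :: c :: [a, β • a, β⁻¹ • a]) (by simp)
  obtain ⟨x', hx'⟩ := H.pick (x :: d :: c :: [a, β • a, β⁻¹ • a]) (by simp)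
  rw [List.mem_cons, not_or] at hd
  rw [List.mem_cons, List.mem_cons, not_or, not_or] at hx
  rw [List.mem_cons, List.mem_cons, List.mem_cons, not_or, not_or, not_or] at hx'
  have fc := hfix c hc
  have fd := hfix d hd.2
  have fx := hfix x hx.2.2
  have fx' := hfix x' hx'.2.2.2
  have hcd : c ≠ d := Ne.symm hd.1
  obtain ⟨s, hs, hsx⟩ := H.trans2 hcd hx.2.1 hx.1 hx'.2.2.1 hx'.2.1
  have hs1 : s ≠ 1 := by
    rintro rfl
    rw [one_smul] at hsx
    exact hx'.1 hsx.symm
  -- `β s = s`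
  have hst : ∀ t ∈ st c d, β t ∈ st c d := by
    intro t ht
    rw [mem_st]
    have h1 := aut_smul β t c
    have h2 := aut_smul β t d
    rw [fc, (mem_st.1 ht).1, fc] at h1
    rw [fd, (mem_st.1 ht).2, fd] at h2
    exact ⟨h1.symm, h2.symm⟩
  have hβs : β s = s := by
    have h1 : (s⁻¹ * β s) • x = x := by
      have h2 := aut_smul β s x
      rw [hsx, fx', fx] at h2
      rw [mul_smul, ← h2, ← hsx, inv_smul_smul]
    have h2 : s⁻¹ * β s ∈ st c d := mul_mem (inv_mem hs) (hst s hs)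
    by_cases h3 : s⁻¹ * β s = 1
    · exact (inv_mul_eq_one.1 h3).symm
    · exfalso
      rcases H.fix2 (H.order_st hcd h2 h3) hcd (mem_st.1 h2).1 (mem_st.1 h2).2 h1 with h7 | h7
      · exact hx.2.1 h7
      · exact hx.1 h7
  have hz : zpowers s = st c d := by
    refine eq_of_le_of_card_ge (zpowers_le.2 hs) ?_
    rw [Nat.card_zpowers, H.order_st hcd hs hs1, H.card_st hcd]
  have hac : a ≠ c := by
    rintro rfl
    exact ha fc
  have had : a ≠ d := by
    rintro rfl
    exact ha fd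
  obtain ⟨t, ht, htx⟩ := H.trans2 hcd hx.2.1 hx.1 hac had
  rw [← hz] at ht
  obtain ⟨i, rfl⟩ := mem_zpowers_iff.1 ht
  apply ha
  rw [← htx, aut_smul, map_zpow, hβs, fx]

theorem E8.conj_inj [IsSimpleGroup K] (H : E8 K) : Function.Injective (MulAut.conj : K →* MulAut K) :=
  (injective_iff_map_eq_one _).2 fun s hs => H.faithful' fun P => by rw [← conj_smul, hs, one_smul]

/-- **The main step.** -/
theorem E8.not_solvable [IsSimpleGroup K] (H : E8 K) {β : MulAut K} {z : K} (hz : orderOf z = 7)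
    {a b : Sylow 2 K} (hab : a ≠ b) (hza : z • a = a) (hzb : z • b = b) (h1 : β • a ≠ a) (h2 : β • a ≠ b)
    (h3 : β • b ≠ a) (h4 : β • b ≠ b) :
    ¬ Group.IsSolvable (closure ({MulAut.conj z, β} : Set (MulAut K))) := by
  intro hsol
  obtain ⟨X, hX⟩ : ∃ X, X = closure ({MulAut.conj z, β} : Set (MulAut K)) := ⟨_, rfl⟩
  rw [← hX] at hsol
  have hzX : MulAut.conj z ∈ X := by rw [hX]; exact subset_closure (by simp)
  have hβX : β ∈ X := by rw [hX]; exact subset_closure (by simp)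
  obtain ⟨Y, hY⟩ : ∃ Y, Y = X.comap (MulAut.conj : K →* MulAut K) := ⟨_, rfl⟩
  have hYX : ∀ u : K, u ∈ Y ↔ MulAut.conj u ∈ X := fun u => by rw [hY]; rfl
  have hYs : Group.IsSolvable Y := by
    let f : Y →* X := ((MulAut.conj : K →* MulAut K).comp Y.subtype).codRestrict X fun u => (hYX u).1 u.2
    have hf : Function.Injective f := by
      intro u v huv
      exact Subtype.ext (H.conj_inj (congrArg Subtype.val huv))
    exact Group.isSolvable_of_isSolvable_injective (f := f) hf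
  have hz1 : z ≠ 1 := by
    rintro rfl
    rw [orderOf_one] at hz
    omega
  have hzY : z ∈ Y := (hYX z).2 hzX
  have hYn : Nontrivial Y := ⟨⟨⟨z, hzY⟩, 1, fun h => hz1 (congrArg Subtype.val h)⟩⟩
  have hconj : ∀ (γ : MulAut K) (u : K), MulAut.conj (γ u) = γ * MulAut.conj u * γ⁻¹ := by
    intro γ u
    ext t
    simp [MulAut.mul_apply, MulAut.conj_apply]
  have hYγ : ∀ γ ∈ X, ∀ u ∈ Y, γ u ∈ Y := by
    intro γ hγ u hu
    rw [hYX, hconj]
    exact mul_mem (mul_mem hγ ((hYX u).1 hu)) (inv_mem hγ)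
  obtain ⟨t, ht, hT0⟩ := exists_pCore hYs
  have htf : Fact t.Prime := ⟨ht⟩
  obtain ⟨T, hT⟩ : ∃ T, T = (Cfsg.pCore t Y).map Y.subtype := ⟨_, rfl⟩
  have hTinv : ∀ γ ∈ X, ∀ u ∈ T, γ u ∈ T := by
    intro γ hγ u hu
    rw [hT] at hu ⊢
    obtain ⟨u', hu', rfl⟩ := hu
    let e : Y ≃* Y :=
      { toFun := fun u => ⟨γ u, hYγ γ hγ u u.2⟩
        invFun := fun u => ⟨γ⁻¹ u, hYγ γ⁻¹ (inv_mem hγ) u u.2⟩
        left_inv := fun u => Subtype.ext (MulAut.inv_apply_self K γ u)
        right_inv := fun u => Subtype.ext (MulAut.apply_inv_self K γ u)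
        map_mul' := fun u v => Subtype.ext (map_mul γ _ _) }
    have h5 := Cfsg.Agent.Lib.Cores.map_equiv_pCore e t
    have h6 : e u' ∈ Cfsg.pCore t Y := by
      rw [← h5]
      exact mem_map_of_mem _ hu'
    exact ⟨e u', h6, rfl⟩
  have hTb : T ≠ ⊥ := by
    rw [hT, Ne, Subgroup.map_eq_bot_iff_of_injective _ Y.subtype_injective]
    exact hT0
  have hTp : IsPGroup t T := by
    rw [hT]
    exact (Cfsg.Agent.Lib.Cores.pCore_isPGroup t).map _
  obtain ⟨k, hk⟩ := hTp.exists_card_eq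
  have hk0 : k ≠ 0 := by
    rintro rfl
    rw [pow_zero] at hk
    exact hTb (card_eq_one.1 hk)
  have hkd : t ^ k ∣ 504 := by rw [← hk, ← H.card]; exact card_subgroup_dvd_card T
  obtain ⟨u, huT, hu1⟩ : ∃ u ∈ T, u ≠ 1 := (Subgroup.ne_bot_iff_exists_ne_one.1 hTb).elim
    fun u hu => ⟨u, u.2, fun h => hu (Subtype.ext h)⟩
  have hzT : ∀ u ∈ T, z * u * z⁻¹ ∈ T := hTinv _ hzX
  have ht3 : t = 2 ∨ t = 3 ∨ t = 7 := by
    have h5 : t ∣ 2 ^ 3 * (3 ^ 2 * 7) := (dvd_pow_self t hk0).trans hkd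
    rcases (ht.dvd_mul).1 h5 with h6 | h6
    · exact Or.inl ((Nat.prime_dvd_prime_iff_eq ht Nat.prime_two).1 (ht.dvd_of_dvd_pow h6))
    · rcases (ht.dvd_mul).1 h6 with h7 | h7
      · exact Or.inr (Or.inl ((Nat.prime_dvd_prime_iff_eq ht Nat.prime_three).1 (ht.dvd_of_dvd_pow h7)))
      · exact Or.inr (Or.inr ((Nat.prime_dvd_prime_iff_eq ht (by norm_num)).1 h7))
  rcases ht3 with rfl | rfl | rfl
  · -- a `2`-group
    obtain ⟨Q, hQ⟩ := hTp.exists_le_sylow
    have h5 : ∀ γ ∈ X, γ • Q = Q := by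
      intro γ hγ
      refine H.TI (γ • Q) Q (γ u) (fun h => hu1 (γ.injective (by rw [h, map_one]))) ?_ (hQ (hTinv γ hγ u huT))
      rw [mem_aut_smul]
      exact hQ huT
    have h6 := h5 β hβX
    have h7 : z • Q = Q := h5 _ hzX
    rcases H.fix2 hz hab hza hzb h7 with rfl | rfl
    · exact h1 h6
    · exact h4 h6
  · -- a `3`-group
    have hk2 : k ≤ 2 := by
      by_contra hk2
      have h5 : 3 ^ 3 ∣ 504 := (pow_dvd_pow 3 (by omega : 3 ≤ k)).trans hkd
      norm_num at h5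
    obtain ⟨j, hj, hjc, hjd⟩ := Cfsg.Agent.H465.SU.card_fixed (p := 7) (t := 3) (by norm_num) (by norm_num)
      (by norm_num) hz hk hzT
    have hj0 : j = 0 := by
      by_contra hj0
      have : j = 1 ∨ j = 2 := by omega
      rcases this with rfl | rfl <;> norm_num at hjd
    rw [hj0, Nat.sub_zero, ← hk] at hjc
    have h5 : T ⊓ centralizer ({z} : Set K) = T := eq_of_le_of_card_ge inf_le_left hjc.ge
    have h6 : u ∈ T ⊓ centralizer ({z} : Set K) := by rw [h5]; exact huT
    have h7 : z * u = u * z := (mem_centralizer_singleton_iff.1 h6.2).symm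
    have h8 : ∀ c : Sylow 2 K, z • c = c → z • (u • c) = u • c := by
      intro c hc
      rw [← mul_smul, h7, mul_smul, hc]
    have h9 : u * u ≠ 1 := by
      intro h9
      have h10 : orderOf u ∣ 2 := orderOf_dvd_of_pow_eq_one (by rw [pow_two, h9])
      obtain ⟨i, hi⟩ := (IsPGroup.iff_orderOf.1 hTp) ⟨u, huT⟩
      rw [orderOf_mk] at hi
      have h11 : Nat.Coprime (orderOf u) 2 := by
        rw [hi]; exact Nat.Coprime.pow_left _ (by norm_num)
      have h12 : orderOf u = 1 := Nat.eq_one_of_dvd_coprimes h11 dvd_rfl h10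
      exact hu1 (orderOf_eq_one_iff.1 h12)
    have hst : ∀ v ∈ T, v ∈ st a b → v = 1 := by
      intro v hvT hv
      by_contra hv1
      have h10 := H.order_st hab hv hv1
      obtain ⟨i, hi⟩ := (IsPGroup.iff_orderOf.1 hTp) ⟨v, hvT⟩
      rw [orderOf_mk, h10] at hi
      have h11 : 3 ∣ 7 ∨ i = 0 := by
        rcases Nat.eq_zero_or_pos i with h | h
        · exact Or.inr h
        · left; rw [hi]; exact dvd_pow_self 3 h.ne'
      rcases h11 with h11 | h11
      · norm_num at h11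
      · rw [h11] at hi; norm_num at hi
    rcases H.fix2 hz hab hza hzb (h8 a hza) with h10 | h10
    · rcases H.fix2 hz hab hza hzb (h8 b hzb) with h11 | h11
      · exact hab (smul_left_cancel u (h10.trans h11.symm))
      · exact hu1 (hst u huT (mem_st.2 ⟨h10, h11⟩))
    · rcases H.fix2 hz hab hza hzb (h8 b hzb) with h11 | h11
      · exact h9 (hst _ (mul_mem huT huT) (mem_st.2 ⟨by rw [mul_smul, h10, h11], by rw [mul_smul, h11, h10]⟩))
      · exact hab (smul_left_cancel u (h10.trans h11.symm))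
  · -- a `7`-group
    have hle : ∀ S : Subgroup K, IsPGroup 7 S → Nat.card S ≤ 7 := by
      intro S hS
      obtain ⟨i, hi⟩ := hS.exists_card_eq
      have h5 : 7 ^ i ∣ 504 := by rw [← hi, ← H.card]; exact card_subgroup_dvd_card S
      have h6 : i ≤ 1 := by
        by_contra h6
        have h7 : 7 ^ 2 ∣ 504 := (pow_dvd_pow 7 (by omega : 2 ≤ i)).trans h5
        norm_num at h7
      rw [hi]
      calc 7 ^ i ≤ 7 ^ 1 := Nat.pow_le_pow_right (by norm_num) h6
        _ = 7 := by norm_num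
    have hZp : IsPGroup 7 (zpowers z) := IsPGroup.of_card (n := 1) (by rw [Nat.card_zpowers, hz, pow_one])
    have h5 : zpowers z ≤ normalizer (T : Set K) := by
      rw [zpowers_le, mem_normalizer_iff_map_conj_eq]
      refine eq_of_le_of_card_ge ?_ (le_of_eq (card_map_of_injective (MulAut.conj z).injective).symm)
      rintro _ ⟨v, hv, rfl⟩
      exact hzT v hv
    have h6 := hZp.to_sup_of_normal_right' hTp h5
    have h7 : zpowers z = zpowers z ⊔ T := eq_of_le_of_card_ge le_sup_left (by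
      rw [Nat.card_zpowers, hz]; exact hle _ h6)
    have h8 : T ≤ zpowers z := h7 ▸ le_sup_right
    have h9 : T = zpowers z := by
      refine eq_of_le_of_card_ge h8 ?_
      rw [Nat.card_zpowers, hz, hk]
      exact Nat.le_self_pow hk0 7
    have h10 : β z ∈ zpowers z := by
      rw [← h9]
      exact hTinv β hβX z (by rw [h9]; exact mem_zpowers z)
    have h11 : ∀ c : Sylow 2 K, z • c = c → z • (β⁻¹ • c) = β⁻¹ • c := by
      intro c hc
      have h12 : (β z) • c = c := by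
        obtain ⟨i, hi⟩ := mem_zpowers_iff.1 h10
        have h13 : z ∈ stabilizer K c := hc
        have h14 := zpow_mem h13 i
        rw [hi] at h14
        exact h14
      have h13 := aut_smul β z (β⁻¹ • c)
      rw [smul_inv_smul, h12] at h13
      exact eq_inv_smul_iff.2 h13
    rcases H.fix2 hz hab hza hzb (h11 a hza) with h12 | h12
    · exact h1 (by rw [← h12, smul_inv_smul, h12])
    · exact h3 (by rw [← h12, smul_inv_smul])

/-- for `β ≠ 1` some conjugate of `y` generates with `β` a non-solvable group -/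
theorem E8.ns [IsSimpleGroup K] (H : E8 K) {y : K} (hy : orderOf y = 7) {β : MulAut K} (hβ : β ≠ 1) :
    ∃ g : K, ¬ Group.IsSolvable (closure ({MulAut.conj (g * y * g⁻¹), β} : Set (MulAut K))) := by
  obtain ⟨a, b, hab, h1, h2, h3, h4⟩ := H.exists_pair hβ
  -- `y` fixes two points
  have hz : IsPGroup 7 (zpowers y) := IsPGroup.of_card (n := 1) (by rw [Nat.card_zpowers, hy, pow_one])
  obtain ⟨P, hP⟩ := hz.exists_le_sylow
  have hS : IsPGroup 7 (st a b) := IsPGroup.of_card (n := 1) (by rw [H.card_st hab, pow_one])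
  obtain ⟨Q, hQ⟩ := hS.exists_le_sylow
  have hle : ∀ S : Subgroup K, IsPGroup 7 S → Nat.card S ≤ 7 := by
    intro S hS
    obtain ⟨i, hi⟩ := hS.exists_card_eq
    have h5 : 7 ^ i ∣ 504 := by rw [← hi, ← H.card]; exact card_subgroup_dvd_card S
    have h6 : i ≤ 1 := by
      by_contra h6
      have h7 : 7 ^ 2 ∣ 504 := (pow_dvd_pow 7 (by omega : 2 ≤ i)).trans h5
      norm_num at h7
    rw [hi]
    calc 7 ^ i ≤ 7 ^ 1 := Nat.pow_le_pow_right (by norm_num) h6
      _ = 7 := by norm_num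
  have hQe : st a b = (Q : Subgroup K) :=
    eq_of_le_of_card_ge hQ (by rw [H.card_st hab]; exact hle _ Q.isPGroup')
  obtain ⟨g, hg⟩ := MulAction.exists_smul_eq K P Q
  have h5 : g * y * g⁻¹ ∈ st a b := by
    rw [hQe, ← hg, Sylow.coe_subgroup_smul, Subgroup.mem_pointwise_smul_iff_inv_smul_mem, MulAut.smul_def]
    have h6 : (MulAut.conj g)⁻¹ (g * y * g⁻¹) = y := by
      rw [← map_inv, MulAut.conj_apply]; group
    rw [h6]
    exact hP (mem_zpowers y)
  refine ⟨g, H.not_solvable ?_ hab (mem_st.1 h5).1 (mem_st.1 h5).2 h1 h2 h3 h4⟩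
  have h6 : g * y * g⁻¹ = MulAut.conj g y := rfl
  rw [h6, MulEquiv.orderOf_eq, hy]

end Cfsg.Agent.H479.GoodEight
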