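/-
helper479 (TEAM GEN, piece M of S3565): the fields `quat` and `sl25` of `AffRows`.
-/
import Cfsg.Agent.H479.GenSL

set_option autoImplicit false

namespace Cfsg.Agent.H479.GenRows

open Cfsg.Agent.H891.Gen

universe u

theorem row_quat : ∀ (V : Type u) [AddCommGroup V] (p : ℕ) (H : Subgroup (Equiv.Perm V)), Lin p H →
    Nat.card V = p ^ 2 → (p = 5 ∨ p = 7 ∨ p = 11 ∨ p = 23) →
    (∃ N : Subgroup ↥H, N.Normal ∧ Nonempty (↥N ≃* QuaternionGroup 2)) → AffGood H :=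
  fun _ _ _ _ L h2 hp hN => Cfsg.Agent.H479.GenAff.quat L h2 hp hN

theorem row_sl25 : ∀ (V : Type u) [AddCommGroup V] (p : ℕ) (H : Subgroup (Equiv.Perm V)), Lin p H →
    Nat.card V = p ^ 2 → (p = 11 ∨ p = 19 ∨ p = 29 ∨ p = 59) →
    (∃ N : Subgroup ↥H, N.Normal ∧ Nonempty (↥N ≃* Matrix.SpecialLinearGroup (Fin 2) (ZMod 5))) →
    AffGood H :=
  fun _ _ _ _ L h2 hp hN => Cfsg.Agent.H479.GenSL.sl25 L h2 hp hN

end Cfsg.Agent.H479.GenRows
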