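/-
helper479: task 1959 (S4384, helper585), the row `PSL₂(q)`: prime fields and Zsigmondy primes.
-/
import Mathlib
import Cfsg.Agent.H585.GoodW
import Cfsg.Agent.H465.LTwo
import Cfsg.Agent.Lib.Zsigmondy
import Cfsg.Agent.S2602

set_option autoImplicit false

namespace Cfsg.Agent.H479.GoodPSLTwo

open Subgroup Matrix Cfsg.Agent.H465.SU Cfsg.Agent.H585.Good Cfsg.Agent.H585.FacOne Cfsg.Agent.H585.GW

/-- From a solvably unique element of prime order to a generator of the cyclic Sylow subgroup. -/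
theorem hasGood_of_one {K : Type*} [Group K] [Finite K] [IsSimpleGroup K] (hK : ¬ IsMulCommutative K) {r : ℕ}
    (hr : r.Prime) (hr2 : r ≠ 2) (hcyc : ∀ P : Sylow r K, IsCyclic P) (hinn : InnAt K r) {y : K}
    (hy : orderOf y = r) (hsu : SUel r y) : HasGood K := by
  have : Fact r.Prime := ⟨hr⟩
  have hwit : Wit K r y := Wit.of_one hr hy hsu hK
  obtain ⟨hy1, -, hu⟩ := hsu
  have hz : IsPGroup r (zpowers y) := IsPGroup.of_card (n := 1) (by rw [Nat.card_zpowers, hy, pow_one])
  obtain ⟨P, hP⟩ := hz.exists_le_sylow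
  obtain ⟨g, hg⟩ := (hcyc P).exists_generator
  have hgo : orderOf (g : K) = r ^ (Nat.card K).factorization r := by
    rw [orderOf_coe, orderOf_eq_card_of_forall_mem_zpowers hg, P.card_eq_multiplicity]
  have hyg : y ∈ zpowers (g : K) := by
    have h1 : y ∈ (P : Subgroup K) := hP (mem_zpowers y)
    obtain ⟨i, hi⟩ := mem_zpowers_iff.1 (hg ⟨y, h1⟩)
    refine mem_zpowers_iff.2 ⟨i, ?_⟩
    rw [← SubgroupClass.coe_zpow, hi]
  have ha : 1 ≤ (Nat.card K).factorization r := by
    by_contra h0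
    have h1 : (Nat.card K).factorization r = 0 := by omega
    rw [h1, pow_zero, orderOf_eq_one_iff] at hgo
    rw [hgo, zpowers_one_eq_bot, mem_bot] at hyg
    exact hy1 hyg
  refine ⟨r, (Nat.card K).factorization r, g, hr, hr2, ha, hgo,
    Nat.pow_succ_factorization_not_dvd Nat.card_pos.ne' hr, ⟨?_, ⟨_, hgo⟩, ?_⟩, hinn, ?_⟩
  · intro h0
    rw [h0, zpowers_one_eq_bot, mem_bot] at hyg
    exact hy1 hyg
  · intro M hM hgM A B hA hB hAc hBc
    exact hu M hM ((zpowers_le.2 hgM) hyg) A B hA hB hAc hBc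
  · refine Wit.of_zpowers hwit ?_
    have h2 : zpowers y = zpowers ((g : K) ^ r ^ ((Nat.card K).factorization r - 1)) := by
      refine Cfsg.Agent.OddOrderLocal.CyclicSub.eq_of_card_eq_of_le_cyclic (Z := zpowers (g : K)) inferInstance
        (zpowers_le.2 hyg) (zpowers_le.2 (npow_mem_zpowers _ _)) ?_
      rw [Nat.card_zpowers, hy, card_socle hgo ha]
    rw [← h2]
    exact mem_zpowers y

variable {F : Type*} [Field F] [Fintype F]

theorem card_out {p f : ℕ} [Fact p.Prime] (hf : 1 ≤ f) (hF : Fintype.card F = p ^ f) (h4 : 4 ≤ p ^ f) :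
    Nat.card (Cfsg.Out (ProjectiveSpecialLinearGroup (Fin 2) F)) = Nat.gcd 2 (p ^ f - 1) * f := by
  obtain ⟨φ, hφ, -, hker⟩ := Cfsg.Agent.S2602.result (F := F) (p := p) (f := f) hf hF h4
  have h1 := Subgroup.card_mul_index φ.ker
  rw [Subgroup.index_ker, MonoidHom.range_eq_top.2 hφ, Subgroup.card_top, hker,
    Nat.card_congr Multiplicative.toAdd, Nat.card_zmod] at h1
  exact h1.symm

/-- Sylow subgroups of the quotient are cyclic. -/
theorem cyc_psl {r : ℕ} [Fact r.Prime] (h : ∀ P : Sylow r (SpecialLinearGroup (Fin 2) F), IsCyclic P)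
    (P : Sylow r (ProjectiveSpecialLinearGroup (Fin 2) F)) : IsCyclic P := by
  have hs : Function.Surjective (QuotientGroup.mk' (center (SpecialLinearGroup (Fin 2) F))) :=
    QuotientGroup.mk'_surjective _
  obtain ⟨P', rfl⟩ := Sylow.mapSurjective_surjective hs r P
  have := h P'
  change IsCyclic ↥((P' : Subgroup (SpecialLinearGroup (Fin 2) F)).map _)
  exact isCyclic_of_surjective ((QuotientGroup.mk' (center (SpecialLinearGroup (Fin 2) F))).subgroupMap P')
    (MonoidHom.subgroupMap_surjective _ _)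

/-- **Zsigmondy primes of `p^(2f) - 1`.** -/
theorem good_zsig [IsSimpleGroup (ProjectiveSpecialLinearGroup (Fin 2) F)]
    (hK : ¬ IsMulCommutative (ProjectiveSpecialLinearGroup (Fin 2) F)) {p f : ℕ} [Fact p.Prime] [CharP F p]
    (hf : 2 ≤ f) (hF : Fintype.card F = p ^ f) (h8 : ¬ (p = 2 ∧ f = 3)) :
    HasGood (ProjectiveSpecialLinearGroup (Fin 2) F) := by
  have hp : p.Prime := Fact.out
  obtain ⟨r, hr, hord⟩ := Lib.Zsigmondy.exists_prime_orderOf (a := p) (n := 2 * f) hp.two_le (by omega)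
    (by omega) (by rintro ⟨h1, h2⟩; exact h8 ⟨h1, by omega⟩)
  have : Fact r.Prime := ⟨hr⟩
  have hd : ∀ m : ℕ, r ∣ p ^ m - 1 ↔ 2 * f ∣ m := fun m => by
    rw [Lib.Zsigmondy.dvd_pow_sub_one_iff hp.one_lt.le, hord]
  have hpr : ¬ r ∣ p := by
    intro h
    have h1 : ((p : ℕ) : ZMod r) = 0 := (ZMod.natCast_eq_zero_iff _ _).2 h
    rw [h1] at hord
    have h2 : orderOf (0 : ZMod r) = 0 := by
      rw [orderOf_eq_zero_iff']
      intro n hn h3
      rw [zero_pow hn.ne'] at h3
      exact zero_ne_one h3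
    omega
  have hrf : 2 * f ∣ r - 1 := hord ▸ Lib.Zsigmondy.orderOf_dvd_pred hr hpr
  have hr1 := hr.two_le
  have hrf' : 2 * f ≤ r - 1 := Nat.le_of_dvd (by omega) hrf
  have hr5 : 5 ≤ r := by omega
  have hrp : r ≠ p := by rintro rfl; exact hpr dvd_rfl
  -- `r ∣ q + 1`, `r ∤ q - 1`
  have hq1 : ¬ r ∣ Fintype.card F - 1 := by
    rw [hF, hd]
    intro h
    have := Nat.le_of_dvd (by omega) h
    omega
  have hrc : r ∣ Nat.card (SpecialLinearGroup (Fin 2) F) := by
    rw [ClassicalGeometry.PSL2Basic.card_SL2, hF, ← pow_mul, mul_comm f 2]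
    exact ((hd _).2 dvd_rfl).mul_left _
  obtain ⟨y, hy⟩ := exists_prime_orderOf_dvd_card' r hrc
  have hcyc : ∀ P : Sylow r (SpecialLinearGroup (Fin 2) F), IsCyclic P := fun P =>
    S0262.result p r (by omega) hrp P
  have hfin : Module.finrank F (Fin 2 → F) = 2 := by
    rw [Module.finrank_fintype_fun_eq_card, Fintype.card_fin]
  have hSU : SUel r y := by
    refine SUel.of_irreducible (SpecialLinearGroup.toLin' (n := Fin 2) (R := F)) SpecialLinearGroup.toLin'_injective
      hr (by omega) (a := 1) le_rfl (by rw [hy, pow_one]) hcyc (Or.inl ?_)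
      (H465.LTwo.irreducible (r := p) (p := r) (a := 1) hr le_rfl hrp hq1 (by rw [hy, pow_one]))
    rw [hfin]; simp; omega
  have hSU' : SUel r (QuotientGroup.mk' (center (SpecialLinearGroup (Fin 2) F)) y) := by
    refine SUel.map _ (QuotientGroup.mk'_surjective _) ?_ hr ?_ hSU
    · rw [QuotientGroup.ker_mk']
      exact Group.isSolvable_of_comm fun a b => Subtype.ext (mem_center_iff.1 b.2 a)
    · rw [QuotientGroup.ker_mk']
      exact H465.LTwo.not_dvd_center hr (by omega)
  have hyo : orderOf (QuotientGroup.mk' (center (SpecialLinearGroup (Fin 2) F)) y) = r := by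
    have h1 := orderOf_map_dvd (QuotientGroup.mk' (center (SpecialLinearGroup (Fin 2) F))) y
    rw [hy] at h1
    rcases (Nat.dvd_prime hr).1 h1 with h2 | h2
    · exact absurd (orderOf_eq_one_iff.1 h2) hSU'.1
    · exact h2
  refine hasGood_of_one hK hr (by omega) (cyc_psl hcyc) (InnAt.of_out hr ?_) hyo hSU'
  have h4 : 4 ≤ p ^ f := by
    calc 4 = 2 ^ 2 := by norm_num
      _ ≤ p ^ 2 := Nat.pow_le_pow_left hp.two_le 2
      _ ≤ p ^ f := Nat.pow_le_pow_right hp.pos hf
  rw [card_out (p := p) (by omega) hF h4, hr.dvd_mul]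
  rintro (h | h)
  · have := Nat.le_of_dvd (by norm_num) (h.trans (Nat.gcd_dvd_left _ _))
    omega
  · have := Nat.le_of_dvd (by omega) h
    omega

/-- **Prime fields.** -/
theorem good_prime [IsSimpleGroup (ProjectiveSpecialLinearGroup (Fin 2) F)]
    (hK : ¬ IsMulCommutative (ProjectiveSpecialLinearGroup (Fin 2) F)) {p : ℕ} [Fact p.Prime] [CharP F p]
    (hp5 : 5 ≤ p) (hF : Fintype.card F = p) : HasGood (ProjectiveSpecialLinearGroup (Fin 2) F) := by
  have hp : p.Prime := Fact.out
  have hcard : Nat.card (ProjectiveSpecialLinearGroup (Fin 2) F) *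
      Nat.card (center (SpecialLinearGroup (Fin 2) F)) = p * (p ^ 2 - 1) := by
    rw [← hF, ← ClassicalGeometry.PSL2Basic.card_SL2]
    exact (card_eq_card_quotient_mul_card_subgroup (center (SpecialLinearGroup (Fin 2) F))).symm
  have hpK : p ∣ Nat.card (ProjectiveSpecialLinearGroup (Fin 2) F) := by
    have h1 : p ∣ Nat.card (ProjectiveSpecialLinearGroup (Fin 2) F) *
      Nat.card (center (SpecialLinearGroup (Fin 2) F)) := by rw [hcard]; exact dvd_mul_right _ _
    rcases (hp.dvd_mul).1 h1 with h3 | h3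
    · exact h3
    · exact absurd h3 (H465.LTwo.not_dvd_center hp (by omega))
  have hpK2 : ¬ p ^ 2 ∣ Nat.card (ProjectiveSpecialLinearGroup (Fin 2) F) := by
    intro h
    have h1 : p * p ∣ p * (p ^ 2 - 1) := by
      rw [← hcard, ← sq]; exact h.mul_right _
    have h2 := Nat.dvd_of_mul_dvd_mul_left hp.pos h1
    have h3 : p ∣ p ^ 2 - (p ^ 2 - 1) := Nat.dvd_sub (dvd_pow_self p two_ne_zero) h2
    have h4 : p ^ 2 - (p ^ 2 - 1) = 1 := by
      have := Nat.pow_pos (n := 2) hp.pos
      omega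
    rw [h4] at h3
    exact hp.one_lt.ne' (Nat.dvd_one.1 h3)
  obtain ⟨y, hy⟩ := exists_prime_orderOf_dvd_card' p hpK
  have hy1 : y ≠ 1 := by
    rintro rfl
    rw [orderOf_one] at hy
    exact hp.one_lt.ne hy
  have hle : ∀ T : Subgroup (ProjectiveSpecialLinearGroup (Fin 2) F), IsPGroup p T → Nat.card T ≤ p := by
    intro T hT
    obtain ⟨k, hk⟩ := hT.exists_card_eq
    have h1 : Nat.card T ∣ Nat.card (ProjectiveSpecialLinearGroup (Fin 2) F) := card_subgroup_dvd_card T
    rw [hk] at h1 ⊢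
    have hk1 : k ≤ 1 := by
      by_contra hk1
      exact hpK2 ((pow_dvd_pow p (by omega : 2 ≤ k)).trans h1)
    calc p ^ k ≤ p ^ 1 := Nat.pow_le_pow_right hp.pos hk1
      _ = p := pow_one p
  have hSU : SUel p y := by
    refine ⟨hy1, ⟨1, by rw [hy, pow_one]⟩, ?_⟩
    intro M hM hyM
    obtain ⟨R, hR1, hRM, hRp, hRn⟩ := exists_normal_of_linear (F := F) (r := p)
      (SpecialLinearGroup.toLin' (n := Fin 2) (R := F)) SpecialLinearGroup.toLin'_injective hp
      (by rw [Module.finrank_fintype_fun_eq_card, Fintype.card_fin]; omega) (by omega)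
      (QuotientGroup.mk' (center (SpecialLinearGroup (Fin 2) F))) (QuotientGroup.mk'_surjective _)
      (by rw [QuotientGroup.ker_mk'])
      (by rw [QuotientGroup.ker_mk']; exact H465.LTwo.not_dvd_center hp (by omega)) hy hM hyM
    have key : ∀ A : Subgroup (ProjectiveSpecialLinearGroup (Fin 2) F), A ≤ M → Nat.card A = p → A = R := by
      intro A hA hAc
      have h1 : A ≤ normalizer (R : Set (ProjectiveSpecialLinearGroup (Fin 2) F)) := by
        intro g hg
        rw [mem_normalizer_iff_map_conj_eq]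
        refine eq_of_le_of_card_ge ?_ (le_of_eq (card_map_of_injective (MulAut.conj g).injective).symm)
        rintro _ ⟨u, hu, rfl⟩
        exact hRn g (hA hg) u hu
      have hAp : IsPGroup p A := IsPGroup.of_card (n := 1) (by rw [hAc, pow_one])
      have h2 := hAp.to_sup_of_normal_right' hRp h1
      have h3 : A = A ⊔ R := eq_of_le_of_card_ge le_sup_left (by rw [hAc]; exact hle _ h2)
      have h4 : R ≤ A := h3 ▸ le_sup_right
      refine (eq_of_le_of_card_ge h4 ?_).symm
      rw [hAc]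
      obtain ⟨k, hk⟩ := hRp.exists_card_eq
      rw [hk]
      refine Nat.le_self_pow ?_ p
      rintro rfl
      rw [pow_zero] at hk
      exact hR1 (card_eq_one.1 hk)
    intro A B hA hB hAc hBc
    rw [key A hA hAc, key B hB hBc]
  have hcyc : ∀ P : Sylow p (ProjectiveSpecialLinearGroup (Fin 2) F), IsCyclic P := by
    intro P
    have h1 := hle P P.isPGroup'
    have h2 : p ∣ Nat.card P := P.dvd_card_of_dvd_card hpK
    have h3 : Nat.card P = p := le_antisymm h1 (Nat.le_of_dvd Nat.card_pos h2)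
    exact isCyclic_of_prime_card h3
  refine hasGood_of_one hK hp (by omega) hcyc (InnAt.of_out hp ?_) hy hSU
  rw [card_out (p := p) (f := 1) le_rfl (by rw [hF, pow_one]) (by rw [pow_one]; omega), mul_one]
  intro h
  have := Nat.le_of_dvd (by norm_num) (h.trans (Nat.gcd_dvd_left _ _))
  omega

end Cfsg.Agent.H479.GoodPSLTwo
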