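/-
helper479: task 1959 (S4384, helper585), the row `PSL₂(q)`.
-/
import Mathlib
import Cfsg.Agent.H479.GoodPSLTwoA
import Cfsg.Agent.H479.GoodPSLTwoB
import Cfsg.Agent.H436.TTPsl2
import Cfsg.Agent.H260.Psl

set_option autoImplicit false

namespace Cfsg.Agent.H479.GoodPSLTwo

open Subgroup Matrix Cfsg.Agent.H465.SU Cfsg.Agent.H585.Good Cfsg.Agent.H585.FacOne Cfsg.Agent.H585.GW

/-- `PSL₂(8)`. -/
theorem e8_psl {F : Type*} [Field F] [Fintype F] (hF : Fintype.card F = 8) :
    Cfsg.Agent.H479.GoodEight.E8 (ProjectiveSpecialLinearGroup (Fin 2) F) := by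
  have h2 : Fact (Nat.Prime 2) := ⟨Nat.prime_two⟩
  have hchar : CharP F 2 := by
    obtain ⟨p, hp⟩ := CharP.exists F
    have hpp : p.Prime := CharP.char_is_prime F p
    have : Fact p.Prime := ⟨hpp⟩
    obtain ⟨n, -, hn⟩ := FiniteField.card F p
    rw [hF] at hn
    have h3 : p ∣ 2 ^ 3 := by
      have : p ∣ p ^ (n : ℕ) := dvd_pow_self p n.ne_zero
      rw [← hn] at this
      exact this
    have h4 : p = 2 := (Nat.prime_dvd_prime_iff_eq hpp Nat.prime_two).1 (hpp.dvd_of_dvd_pow h3)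
    exact h4 ▸ hp
  have hc : Nat.card (ProjectiveSpecialLinearGroup (Fin 2) F) = 504 := by
    rw [ClassicalGeometry.PSL2Basic.card_PSL2_even F (by rw [hF]; decide), hF]
    norm_num
  have hs : ∀ P : Sylow 2 (ProjectiveSpecialLinearGroup (Fin 2) F), Nat.card P = 8 := fun P => by
    rw [(Cfsg.Agent.H260.Psl.data_psl F 2).card P, hF]
  refine ⟨hc, hs, ?_, fun P Q x hx hP hQ => ClassicalGeometry.PSL2ElemOrder.sylow_eq_of_mem 2 P Q x hx hP hQ⟩
  obtain ⟨P⟩ : Nonempty (Sylow 2 (ProjectiveSpecialLinearGroup (Fin 2) F)) := inferInstance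
  rw [P.card_eq_index_normalizer]
  exact (H436.TT.index_normalizer 2 P).trans (by rw [hF])

/-- **The row `PSL₂(q)` of S4384.** -/
theorem good_psl_two {K : Type*} [Group K] [Finite K] [IsSimpleGroup K] (hK : ¬ IsMulCommutative K)
    {F : Type*} [Field F] [Fintype F] (e : K ≃* Matrix.ProjectiveSpecialLinearGroup (Fin 2) F)
    (h4 : 4 ≤ Fintype.card F) : Cfsg.Agent.H585.GW.HasGoodW K := by
  have hs : IsSimpleGroup (ProjectiveSpecialLinearGroup (Fin 2) F) := e.symm.isSimpleGroup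
  have hcK : ¬ IsMulCommutative (ProjectiveSpecialLinearGroup (Fin 2) F) := by
    intro h
    apply hK
    refine ⟨⟨fun a b => ?_⟩⟩
    apply e.injective
    rw [map_mul, map_mul]
    exact h.is_comm.comm _ _
  refine HasGoodW.congr ?_ e.symm
  obtain ⟨p, hchar⟩ := CharP.exists F
  have hp : p.Prime := CharP.char_is_prime F p
  have hpf : Fact p.Prime := ⟨hp⟩
  obtain ⟨f, -, hf⟩ := FiniteField.card F p
  have hf0 : 1 ≤ (f : ℕ) := f.pos
  by_cases h8 : p = 2 ∧ (f : ℕ) = 3
  · -- `q = 8`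
    have hF : Fintype.card F = 8 := by rw [hf, h8.1, h8.2]; norm_num
    have H := e8_psl hF
    have h7f : Fact (Nat.Prime 7) := ⟨by norm_num⟩
    obtain ⟨y, hy⟩ := exists_prime_orderOf_dvd_card' (G := ProjectiveSpecialLinearGroup (Fin 2) F) 7
      (by rw [H.card]; norm_num)
    refine ⟨7, 1, y, GoodW.of_exc hcK (by norm_num) hy (by rw [H.card]; norm_num) (InnAt.of_out (by norm_num) ?_) ?_⟩
    · rw [card_out (p := 2) (f := 3) (by norm_num) (by rw [hF]; norm_num) (by norm_num)]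
      norm_num
    · intro β hβ
      refine H.ns hy ?_
      rintro rfl
      rw [orderOf_one] at hβ
      exact Nat.not_prime_one hβ
  · by_cases hf1 : (f : ℕ) = 1
    · rw [hf1, pow_one] at hf
      have hp5 : 5 ≤ p := by
        have h5 : p ≠ 4 := by
          rintro rfl
          norm_num at hp
        omega
      exact (good_prime hcK hp5 hf).toW hcK
    · exact (good_zsig hcK (p := p) (f := f) (by omega) hf h8).toW hcK

end Cfsg.Agent.H479.GoodPSLTwo
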