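import Mathlib
import Cfsg.Agent.H479.SelfCentPSL
import Cfsg.Agent.S3919
import Cfsg.Agent.S0199
import Cfsg.Agent.S0071
import Cfsg.Agent.Transfer.MaximalClass
import Cfsg.Agent.LargeExtra.W2.NSBase

/-!
# Groups in which every noncyclic subgroup contains its centralizer (helper479)

* `SCN.subgroup` : passes to subgroups;
* `SCN.card_le_four` : subgroups of exponent two have order at most four;
* `SCN.isPGroup_of_central` : if `z`, `t` are different involutions and `z` is central, the group is a 2-group;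
* `SCN.cit` : a non-abelian simple group with `SCN` has 2-groups as centralizers of involutions;
* `SCN.three_dvd` : and its order is divisible by `3`.
-/

set_option autoImplicit false

namespace Cfsg.Agent.H479.SelfCent

open Subgroup

universe u

theorem SCN.subgroup {G : Type*} [Group G] (h : SCN G) (K : Subgroup G) : SCN K := by
  intro H hH x hx
  have hH' : ¬ IsCyclic (H.map K.subtype) := by
    intro hc
    apply hH
    have e := H.equivMapOfInjective K.subtype K.subtype_injective
    exact isCyclic_of_surjective e.symm e.symm.surjective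
  have hx' : (x : G) ∈ H.map K.subtype := by
    apply h _ hH'
    rw [mem_centralizer_iff]
    rintro _ ⟨y, hy, rfl⟩
    exact congrArg Subtype.val (mem_centralizer_iff.1 hx y hy)
  obtain ⟨y, hy, hyx⟩ := hx'
  have : y = x := Subtype.ext hyx
  rwa [← this]

theorem SCN.of_mulEquiv {G G' : Type*} [Group G] [Group G'] (h : SCN G) (e : G ≃* G') : SCN G' := by
  intro H hH x hx
  have hH' : ¬ IsCyclic (H.map e.symm.toMonoidHom) := by
    intro hc
    apply hH
    have e' := H.equivMapOfInjective e.symm.toMonoidHom e.symm.injective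
    exact isCyclic_of_surjective e'.symm e'.symm.surjective
  have hx' : e.symm x ∈ H.map e.symm.toMonoidHom := by
    apply h _ hH'
    rw [mem_centralizer_iff]
    rintro _ ⟨y, hy, rfl⟩
    have := mem_centralizer_iff.1 hx y hy
    change e.symm y * e.symm x = e.symm x * e.symm y
    rw [← map_mul, this, map_mul]
  obtain ⟨y, hy, hyx⟩ := hx'
  have : y = x := e.symm.injective hyx
  rwa [← this]

section

variable {G : Type*} [Group G]

/-- The four-group generated by two commuting involutions. -/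
def four (a b : G) (ha : a * a = 1) (hb : b * b = 1) (hab : a * b = b * a) : Subgroup G where
  carrier := {x | x = 1 ∨ x = a ∨ x = b ∨ x = a * b}
  mul_mem' := by
    have h1 : a * (a * b) = b := by rw [← mul_assoc, ha, one_mul]
    have h2 : b * (a * b) = a := by rw [hab, ← mul_assoc, hb, one_mul]
    have h3 : a * b * a = b := by rw [mul_assoc, ← hab, h1]
    have h4 : a * b * b = a := by rw [mul_assoc, hb, mul_one]
    have h5 : a * b * (a * b) = 1 := by rw [mul_assoc, h2, ha]
    rintro x y (rfl | rfl | rfl | rfl) (rfl | rfl | rfl | rfl)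
    · left; rw [one_mul]
    · right; left; rw [one_mul]
    · right; right; left; rw [one_mul]
    · right; right; right; rw [one_mul]
    · right; left; rw [mul_one]
    · left; exact ha
    · right; right; right; rfl
    · right; right; left; exact h1
    · right; right; left; rw [mul_one]
    · right; right; right; exact hab.symm
    · left; exact hb
    · right; left; exact h2
    · right; right; right; rw [mul_one]
    · right; right; left; exact h3
    · right; left; exact h4
    · left; exact h5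
  one_mem' := Or.inl rfl
  inv_mem' := by
    rintro x (rfl | rfl | rfl | rfl)
    · left; exact inv_one
    · right; left; exact inv_eq_of_mul_eq_one_left ha
    · right; right; left; exact inv_eq_of_mul_eq_one_left hb
    · right; right; right
      rw [mul_inv_rev, inv_eq_of_mul_eq_one_left ha, inv_eq_of_mul_eq_one_left hb, hab]

theorem mem_four {a b : G} {ha : a * a = 1} {hb : b * b = 1} {hab : a * b = b * a} {x : G} :
    x ∈ four a b ha hb hab ↔ x = 1 ∨ x = a ∨ x = b ∨ x = a * b := Iff.rfl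

theorem not_isCyclic_four {a b : G} (ha : a * a = 1) (hb : b * b = 1) (hab : a * b = b * a)
    (ha1 : a ≠ 1) (hb1 : b ≠ 1) (hne : a ≠ b) : ¬ IsCyclic (four a b ha hb hab) := by
  rintro ⟨⟨g, hg⟩, hgen⟩
  have hsq : g * g = 1 := by
    rcases hg with rfl | rfl | rfl | rfl
    · exact mul_one 1
    · exact ha
    · exact hb
    · rw [mul_assoc, ← mul_assoc b, ← hab, mul_assoc, hb, mul_one, ha]
  have key : ∀ x ∈ four a b ha hb hab, x = 1 ∨ x = g := by
    intro x hx
    obtain ⟨k, hk⟩ := hgen ⟨x, hx⟩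
    have hk' : g ^ k = x := congrArg Subtype.val hk
    rcases Int.even_or_odd' k with ⟨m, rfl | rfl⟩
    · left
      rw [← hk', zpow_mul, zpow_two, hsq, one_zpow]
    · right
      rw [← hk', zpow_add, zpow_mul, zpow_two, hsq, one_zpow, zpow_one, one_mul]
  rcases key a (mem_four.2 (Or.inr (Or.inl rfl))) with h | h
  · exact ha1 h
  · rcases key b (mem_four.2 (Or.inr (Or.inr (Or.inl rfl)))) with h' | h'
    · exact hb1 h'
    · exact hne (h.trans h'.symm)

/-- An element commuting with two different commuting involutions lies in the four-group they generate. -/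
theorem SCN.mem_of_comm (h : SCN G) {a b x : G} (ha : a * a = 1) (hb : b * b = 1) (hab : a * b = b * a)
    (ha1 : a ≠ 1) (hb1 : b ≠ 1) (hne : a ≠ b) (hxa : a * x = x * a) (hxb : b * x = x * b) :
    x = 1 ∨ x = a ∨ x = b ∨ x = a * b := by
  apply mem_four.1 (h _ (not_isCyclic_four ha hb hab ha1 hb1 hne) _)
  rw [mem_centralizer_iff]
  rintro y (rfl | rfl | rfl | rfl)
  · rw [one_mul, mul_one]
  · exact hxa
  · exact hxb
  · rw [mul_assoc, hxb, ← mul_assoc, hxa, mul_assoc]

/-- A subgroup of exponent two has order at most four. -/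
theorem SCN.card_le_four (h : SCN G) [Finite G] (E : Subgroup G) (hE : ∀ x ∈ E, x * x = 1) :
    Nat.card E ≤ 4 := by
  classical
  have hcomm : ∀ x ∈ E, ∀ y ∈ E, x * y = y * x := by
    intro x hx y hy
    have h1 := hE _ (E.mul_mem hx hy)
    have hx' : x⁻¹ = x := inv_eq_of_mul_eq_one_left (hE x hx)
    have hy' : y⁻¹ = y := inv_eq_of_mul_eq_one_left (hE y hy)
    have h2 : (x * y)⁻¹ = x * y := inv_eq_of_mul_eq_one_left h1
    rw [mul_inv_rev, hx', hy'] at h2
    exact h2.symm
  by_cases h1 : ∀ a ∈ E, a = 1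
  · have : E = ⊥ := (eq_bot_iff_forall E).2 h1
    rw [this, card_bot]
    norm_num
  push Not at h1
  obtain ⟨a, ha, ha1⟩ := h1
  by_cases h2 : ∀ b ∈ E, b = 1 ∨ b = a
  · have hsub : (E : Set G) ⊆ ({1, a} : Finset G) := by
      intro b hb
      simp only [Finset.coe_insert, Finset.coe_singleton, Set.mem_insert_iff, Set.mem_singleton_iff]
      exact h2 b hb
    have h3 := Set.ncard_le_ncard hsub (Finset.finite_toSet _)
    rw [Set.ncard_coe_finset] at h3
    have h4 : Nat.card E = (E : Set G).ncard := rfl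
    rw [h4]
    exact h3.trans ((Finset.card_le_two).trans (by norm_num))
  push Not at h2
  obtain ⟨b, hb, hb1, hba⟩ := h2
  have hall : ∀ x ∈ E, x = 1 ∨ x = a ∨ x = b ∨ x = a * b := fun x hx =>
    h.mem_of_comm (hE a ha) (hE b hb) (hcomm a ha b hb) ha1 hb1 (Ne.symm hba)
      (hcomm a ha x hx) (hcomm b hb x hx)
  have hsub : (E : Set G) ⊆ ({1, a, b, a * b} : Finset G) := by
    intro x hx
    simp only [Finset.coe_insert, Finset.coe_singleton, Set.mem_insert_iff, Set.mem_singleton_iff]
    exact hall x hx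
  have h3 := Set.ncard_le_ncard hsub (Finset.finite_toSet _)
  rw [Set.ncard_coe_finset] at h3
  have h4 : Nat.card E = (E : Set G).ncard := rfl
  rw [h4]
  exact h3.trans Finset.card_le_four

/-- The dihedral subgroup `⟨x⟩ ∪ ⟨x⟩ t`. -/
def dih (x t : G) (ht : t * t = 1) (hx : t * x * t = x⁻¹) : Subgroup G where
  carrier := {h | ∃ i : ℤ, h = x ^ i ∨ h = x ^ i * t}
  mul_mem' := by
    have key : ∀ j : ℤ, t * x ^ j = x ^ (-j) * t := by
      intro j
      have ht' : t⁻¹ = t := inv_eq_of_mul_eq_one_left ht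
      have h1 : t * x * t⁻¹ = x⁻¹ := by rw [ht']; exact hx
      have h2 : t * x ^ j * t⁻¹ = x ^ (-j) := by rw [← conj_zpow, h1, inv_zpow, zpow_neg]
      rw [← h2, inv_mul_cancel_right]
    rintro a b ⟨i, rfl | rfl⟩ ⟨j, rfl | rfl⟩
    · exact ⟨i + j, Or.inl (zpow_add x i j).symm⟩
    · exact ⟨i + j, Or.inr (by rw [zpow_add, mul_assoc])⟩
    · exact ⟨i - j, Or.inr (by rw [mul_assoc, key, ← mul_assoc, ← zpow_add, sub_eq_add_neg])⟩
    · exact ⟨i - j, Or.inl (by
        rw [mul_assoc, ← mul_assoc t, key, mul_assoc (x ^ (-j)), ht, mul_one, ← zpow_add, sub_eq_add_neg])⟩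
  one_mem' := ⟨0, Or.inl (zpow_zero x).symm⟩
  inv_mem' := by
    have ht' : t⁻¹ = t := inv_eq_of_mul_eq_one_left ht
    have key : ∀ j : ℤ, t * x ^ j = x ^ (-j) * t := by
      intro j
      have h1 : t * x * t⁻¹ = x⁻¹ := by rw [ht']; exact hx
      have h2 : t * x ^ j * t⁻¹ = x ^ (-j) := by rw [← conj_zpow, h1, inv_zpow, zpow_neg]
      rw [← h2, inv_mul_cancel_right]
    rintro a ⟨i, rfl | rfl⟩
    · exact ⟨-i, Or.inl (zpow_neg x i).symm⟩
    · exact ⟨i, Or.inr (by rw [mul_inv_rev, ht', ← zpow_neg, key, neg_neg])⟩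

theorem mem_dih {x t : G} {ht : t * t = 1} {hx : t * x * t = x⁻¹} {h : G} :
    h ∈ dih x t ht hx ↔ ∃ i : ℤ, h = x ^ i ∨ h = x ^ i * t := Iff.rfl

/-- If `z ≠ t` are involutions, `z` central, then `t` inverts no nontrivial element of odd order. -/
theorem SCN.eq_one_of_inverted (h : SCN G) {z t x : G} (hz : z * z = 1) (hz1 : z ≠ 1)
    (hzc : ∀ g : G, z * g = g * z) (ht : t * t = 1) (hx : t * x * t = x⁻¹)
    (hxo : Odd (orderOf x)) : x = 1 := by
  by_contra hx1
  have ht' : t⁻¹ = t := inv_eq_of_mul_eq_one_left ht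
  -- `x` does not commute with `t`
  have hxt : t * x ≠ x * t := by
    intro hc
    rw [hc, mul_assoc, ht, mul_one] at hx
    have h1 : x ^ 2 = 1 := by
      rw [pow_two]
      nth_rewrite 1 [hx]
      exact inv_mul_cancel x
    have h2 := orderOf_dvd_of_pow_eq_one h1
    have h3 : (orderOf x).Coprime 2 := Nat.coprime_two_right.2 hxo
    have h4 := Nat.Coprime.eq_one_of_dvd h3 h2
    exact hx1 (orderOf_eq_one_iff.1 h4)
  have hD : ¬ IsCyclic (dih x t ht hx) := by
    intro hc
    letI := IsCyclic.commGroup (α := dih x t ht hx)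
    have hxm : x ∈ dih x t ht hx := ⟨1, Or.inl (zpow_one x).symm⟩
    have htm : t ∈ dih x t ht hx := ⟨0, Or.inr (by rw [zpow_zero, one_mul])⟩
    exact hxt (congrArg Subtype.val (mul_comm (⟨t, htm⟩ : dih x t ht hx) ⟨x, hxm⟩))
  have hzD : z ∈ dih x t ht hx := by
    apply h _ hD
    rw [mem_centralizer_iff]
    intro g _
    exact (hzc g).symm
  obtain ⟨i, hi | hi⟩ := hzD
  · -- `z` is a power of `x`
    have h1 : orderOf z ∣ orderOf x := by
      apply orderOf_dvd_of_pow_eq_one
      rw [hi, ← zpow_natCast, ← zpow_mul, mul_comm, zpow_mul, zpow_natCast, pow_orderOf_eq_one, one_zpow]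
    have h2 : orderOf z = 2 := orderOf_eq_prime (by rw [pow_two]; exact hz) hz1
    rw [h2] at h1
    exact (Nat.not_even_iff_odd.2 hxo) (even_iff_two_dvd.2 h1)
  · apply hxt
    have h1 := hzc x
    rw [hi] at h1
    -- x^i * t * x = x * (x^i * t)
    have h2 : x ^ i * (t * x) = x ^ i * (x * t) := by
      rw [← mul_assoc, h1, ← mul_assoc, ← mul_assoc, ← zpow_one_add, ← zpow_add_one, add_comm]
    exact mul_left_cancel h2

/-- A 2-group with `SCN`, a central involution `z` and another involution `t` has a cyclic subgroup of index two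
containing `z`. -/
theorem SCN.exists_cyclic_index_two {R : Type*} [Group R] [Finite R] (h : SCN R) (hR : IsPGroup 2 R)
    {z t : R} (hz : z * z = 1) (hz1 : z ≠ 1) (hzc : ∀ g : R, z * g = g * z) (ht : t * t = 1) (ht1 : t ≠ 1)
    (hzt : z ≠ t) : ∃ C : Subgroup R, IsCyclic C ∧ C.index = 2 ∧ z ∈ C := by
  classical
  haveI : Fact (Nat.Prime 2) := ⟨Nat.prime_two⟩
  by_cases hab : IsMulCommutative R
  · -- commutative: `R` is the four-group
    have hcomm : ∀ a b : R, a * b = b * a := fun a b => hab.is_comm.comm a b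
    have hall : ∀ x : R, x = 1 ∨ x = z ∨ x = t ∨ x = z * t := fun x =>
      h.mem_of_comm hz ht (hzc t) hz1 ht1 hzt (hzc x) (hcomm t x)
    have hzt1 : z * t ≠ 1 := by
      intro h1
      apply hzt
      have := eq_inv_of_mul_eq_one_left h1
      rw [this]
      exact inv_eq_of_mul_eq_one_left ht
    have hcard : Nat.card R = 4 := by
      have huniv : (Set.univ : Set R) = (({1, z, t, z * t} : Finset R) : Set R) := by
        ext x
        simp only [Finset.coe_insert, Finset.coe_singleton, Set.mem_insert_iff, Set.mem_singleton_iff,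
          Set.mem_univ, true_iff]
        exact hall x
      rw [← Set.ncard_univ, huniv, Set.ncard_coe_finset]
      rw [Finset.card_insert_of_notMem, Finset.card_insert_of_notMem, Finset.card_insert_of_notMem,
        Finset.card_singleton]
      · rw [Finset.mem_singleton]
        intro h1
        apply hz1
        have : 1 * t = z * t := by rw [one_mul]; exact h1
        exact (mul_right_cancel this).symm
      · simp only [Finset.mem_insert, Finset.mem_singleton, not_or]
        refine ⟨hzt, ?_⟩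
        intro h1
        apply ht1
        have : z * 1 = z * t := by rw [mul_one]; exact h1
        exact (mul_left_cancel this).symm
      · simp only [Finset.mem_insert, Finset.mem_singleton, not_or]
        exact ⟨Ne.symm hz1, Ne.symm ht1, Ne.symm hzt1⟩
    refine ⟨zpowers z, inferInstance, ?_, mem_zpowers z⟩
    have h2 : orderOf z = 2 := orderOf_eq_prime (by rw [pow_two]; exact hz) hz1
    have h3 := card_mul_index (zpowers z)
    rw [Nat.card_zpowers, h2, hcard] at h3
    omega
  · obtain ⟨n, hn⟩ := IsPGroup.iff_card.1 hR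
    have hn3 : 3 ≤ n := Cfsg.Agent.S3919.two_le_of_nonabelian hab n hn
    have hl := (Cfsg.Agent.S3919.result hab n hn).1 h
    haveI : Group.IsNilpotent R := hR.isNilpotent
    rw [Ne, Subgroup.lowerCentralSeries_eq_bot_iff_nilpotencyClass_le] at hl
    have hle := Cfsg.Agent.Transfer.MaximalClass.nilpotencyClass_le_pred (p := 2) n R hn (by omega)
    have hcl : Group.nilpotencyClass R = n - 1 := by omega
    obtain ⟨C, hC, hC2⟩ :=
      Cfsg.Agent.Transfer.MaximalClass.exists_isCyclic_index_two_of_maxClass n hn3 R hn hcl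
    refine ⟨C, hC, hC2, ?_⟩
    by_contra hzC
    apply hab
    have hCab : ∀ a ∈ C, ∀ b ∈ C, a * b = b * a := by
      intro a ha b hb
      let _ := IsCyclic.commGroup (α := C)
      exact congrArg Subtype.val (mul_comm (⟨a, ha⟩ : C) ⟨b, hb⟩)
    have key : ∀ a : R, ∃ c ∈ C, a = c ∨ a = c * z := by
      intro a
      by_cases ha : a ∈ C
      · exact ⟨a, ha, Or.inl rfl⟩
      · refine ⟨a * z⁻¹, ?_, Or.inr (by rw [inv_mul_cancel_right])⟩
        rw [mul_mem_iff_of_index_two hC2]
        exact ⟨fun h' => absurd h' ha, fun h' => absurd (inv_mem_iff.1 h') hzC⟩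
    refine ⟨⟨fun a b => ?_⟩⟩
    obtain ⟨c, hc, hac⟩ := key a
    obtain ⟨d, hd, hbd⟩ := key b
    have hcd := hCab c hc d hd
    rcases hac with rfl | rfl <;> rcases hbd with rfl | rfl
    · exact hcd
    · rw [← mul_assoc, hcd, mul_assoc, mul_assoc, hzc]
    · rw [mul_assoc, hzc, ← mul_assoc, hcd, mul_assoc]
    · have e1 : c * z * (d * z) = c * d * (z * z) := by
        rw [mul_assoc, ← mul_assoc z, hzc d, mul_assoc d, ← mul_assoc]
      have e2 : d * z * (c * z) = d * c * (z * z) := by
        rw [mul_assoc, ← mul_assoc z, hzc c, mul_assoc c, ← mul_assoc]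
      rw [e1, e2, hcd]

/-- The number of involutions outside a cyclic subgroup of index two is zero or a power of two. -/
theorem exists_card_involutions {R : Type*} [Group R] [Finite R] (hR : IsPGroup 2 R)
    (C : Subgroup R) (hC : IsCyclic C) (hC2 : C.index = 2) {t : R} (ht : t * t = 1) (htC : t ∉ C) :
    ∃ i : ℕ, Nat.card {u : R // u * u = 1 ∧ u ∉ C} = 2 ^ i := by
  classical
  haveI : Fact (Nat.Prime 2) := ⟨Nat.prime_two⟩
  have ht' : t⁻¹ = t := inv_eq_of_mul_eq_one_left ht
  have hCab : ∀ a ∈ C, ∀ b ∈ C, a * b = b * a := by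
    intro a ha b hb
    let _ := IsCyclic.commGroup (α := C)
    exact congrArg Subtype.val (mul_comm (⟨a, ha⟩ : C) ⟨b, hb⟩)
  -- the subgroup of the elements of `C` inverted by `t`
  let I : Subgroup R :=
    { carrier := {c | c ∈ C ∧ t * c * t = c⁻¹}
      mul_mem' := by
        rintro a b ⟨ha, ha'⟩ ⟨hb, hb'⟩
        refine ⟨C.mul_mem ha hb, ?_⟩
        have : t * (a * b) * t = (t * a * t) * (t * b * t) := by
          have h1 : (t * a * t) * (t * b * t) = t * a * (t * t) * b * t := by group
          rw [h1, ht, mul_one]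
          group
        rw [this, ha', hb', ← mul_inv_rev, hCab b hb a ha]
      one_mem' := ⟨C.one_mem, by rw [mul_one, ht, inv_one]⟩
      inv_mem' := by
        rintro a ⟨ha, ha'⟩
        refine ⟨C.inv_mem ha, ?_⟩
        have : (t * a * t)⁻¹ = t * a⁻¹ * t := by
          rw [mul_inv_rev, mul_inv_rev, ht', mul_assoc]
        rw [← this, ha'] }
  obtain ⟨i, hi⟩ := IsPGroup.iff_card.1 (hR.to_subgroup I)
  refine ⟨i, ?_⟩
  rw [← hi]
  have hmem : ∀ c : R, c ∈ I ↔ c ∈ C ∧ t * c * t = c⁻¹ := fun c => Iff.rfl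
  refine Nat.card_congr (Equiv.symm ?_)
  refine
    { toFun := fun c => ⟨c.1 * t, ?_, ?_⟩
      invFun := fun u => ⟨u.1 * t, ?_⟩
      left_inv := ?_
      right_inv := ?_ }
  · have hc := ((hmem _).1 c.2).2
    calc c.1 * t * (c.1 * t) = c.1 * (t * c.1 * t) := by group
      _ = 1 := by rw [hc, mul_inv_cancel]
  · rw [mul_mem_iff_of_index_two hC2]
    intro h'
    exact htC (h'.1 ((hmem _).1 c.2).1)
  · rw [hmem]
    have hut : u.1 * t ∈ C := by
      rw [mul_mem_iff_of_index_two hC2]
      exact ⟨fun h' => absurd h' u.2.2, fun h' => absurd h' htC⟩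
    refine ⟨hut, ?_⟩
    have hu' : u.1⁻¹ = u.1 := inv_eq_of_mul_eq_one_left u.2.1
    rw [mul_inv_rev, ht', hu', mul_assoc, mul_assoc, ht, mul_one]
  · rintro ⟨c, hc⟩
    apply Subtype.ext
    change c * t * t = c
    rw [mul_assoc, ht, mul_one]
  · rintro ⟨u, hu⟩
    apply Subtype.ext
    change u * t * t = u
    rw [mul_assoc, ht, mul_one]

/-- A finite group all of whose elements of prime order are involutions is a 2-group. -/
theorem isPGroup_two_of_prime {K : Type*} [Group K] [Finite K]
    (h : ∀ x : K, (orderOf x).Prime → orderOf x = 2) : IsPGroup 2 K := by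
  haveI : Fact (Nat.Prime 2) := ⟨Nat.prime_two⟩
  rw [IsPGroup.iff_orderOf]
  intro g
  have hg : orderOf g ≠ 0 := (orderOf_pos g).ne'
  refine ⟨(orderOf g).primeFactorsList.length, ?_⟩
  apply Nat.eq_prime_pow_of_unique_prime_dvd hg
  intro r hr hrd
  have h1 := orderOf_pow_orderOf_div hg hrd
  have h2 := h (g ^ (orderOf g / r)) (by rw [h1]; exact hr)
  rw [h1] at h2
  exact h2

/-- **If `z ≠ t` are involutions, `z` central, and noncyclic subgroups contain their centralizers, the group is a
2-group.** -/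
theorem SCN.isPGroup_of_central {K : Type*} [Group K] [Finite K] (h : SCN K) {z t : K}
    (hz : z * z = 1) (hz1 : z ≠ 1) (hzc : ∀ g : K, z * g = g * z) (ht : t * t = 1) (ht1 : t ≠ 1)
    (hzt : z ≠ t) : IsPGroup 2 K := by
  classical
  haveI : Fact (Nat.Prime 2) := ⟨Nat.prime_two⟩
  have ht' : t⁻¹ = t := inv_eq_of_mul_eq_one_left ht
  have ho2 : orderOf t = 2 := orderOf_eq_prime (by rw [pow_two]; exact ht) ht1
  have hoz : orderOf z = 2 := orderOf_eq_prime (by rw [pow_two]; exact hz) hz1
  -- step a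
  have stepa : ∀ c : K, t * (t * (c * t * c⁻¹)) * t = (t * (c * t * c⁻¹))⁻¹ ∧
      ∃ a : ℕ, (t * (c * t * c⁻¹)) ^ (2 ^ a) = 1 := by
    intro c
    have hs : (c * t * c⁻¹) * (c * t * c⁻¹) = 1 := by
      have : (c * t * c⁻¹) * (c * t * c⁻¹) = c * (t * t) * c⁻¹ := by group
      rw [this, ht, mul_one, mul_inv_cancel]
    obtain ⟨s, hsd⟩ : ∃ s, s = c * t * c⁻¹ := ⟨_, rfl⟩
    rw [← hsd] at hs ⊢
    have hs' : s⁻¹ = s := inv_eq_of_mul_eq_one_left hs
    have hinv : t * (t * s) * t = (t * s)⁻¹ := by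
      rw [mul_inv_rev, hs', ht', ← mul_assoc, ht, one_mul]
    refine ⟨hinv, ?_⟩
    obtain ⟨a, m, hm, ham⟩ := Nat.exists_eq_two_pow_mul_odd (n := orderOf (t * s)) (orderOf_pos _).ne'
    refine ⟨a, ?_⟩
    apply h.eq_one_of_inverted hz hz1 hzc ht
    · have h1 : t * (t * s) * t⁻¹ = (t * s)⁻¹ := by rw [ht']; exact hinv
      have h2 : t * (t * s) ^ (2 ^ a) * t⁻¹ = ((t * s)⁻¹) ^ (2 ^ a) := by rw [← conj_pow, h1]
      rw [ht', inv_pow] at h2
      exact h2
    · have h3 : orderOf ((t * s) ^ (2 ^ a)) = m := by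
        rw [orderOf_pow' _ (by positivity), ham, Nat.gcd_mul_right_left,
          Nat.mul_div_cancel_left _ (by positivity)]
      rw [h3]
      exact hm
  -- step b
  have stepb : ∃ N : Subgroup K, N.Normal ∧ IsPGroup 2 N ∧ zpowers t ≤ N := by
    apply Cfsg.Agent.S0199.result (zpowers t)
    · rw [IsPGroup.iff_card]
      exact ⟨1, by rw [Nat.card_zpowers, ho2, pow_one]⟩
    · intro g
      obtain ⟨hinv, a, ha⟩ := stepa g
      have hle : zpowers t ⊔ (zpowers t).map (MulAut.conj g).toMonoidHom ≤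
          dih (t * (g * t * g⁻¹)) t ht hinv := by
        apply sup_le
        · rw [zpowers_le]
          exact ⟨0, Or.inr (by rw [zpow_zero, one_mul])⟩
        · rw [MonoidHom.map_zpowers, zpowers_le]
          change g * t * g⁻¹ ∈ dih (t * (g * t * g⁻¹)) t ht hinv
          have h1 : g * t * g⁻¹ = t * (t * (g * t * g⁻¹)) := by rw [← mul_assoc, ht, one_mul]
          have h2 : t * (t * (g * t * g⁻¹)) ∈ dih (t * (g * t * g⁻¹)) t ht hinv := by
            apply (dih (t * (g * t * g⁻¹)) t ht hinv).mul_mem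
            · exact ⟨0, Or.inr (by rw [zpow_zero, one_mul])⟩
            · exact ⟨1, Or.inl (zpow_one _).symm⟩
          obtain ⟨D, hD⟩ : ∃ D, D = dih (t * (g * t * g⁻¹)) t ht hinv := ⟨_, rfl⟩
          rw [← hD] at h2 ⊢
          rw [h1]
          exact h2
      have hp : IsPGroup 2 (dih (t * (g * t * g⁻¹)) t ht hinv) := by
        rintro ⟨y, i, hy | hy⟩
        · refine ⟨a, Subtype.ext ?_⟩
          change y ^ (2 ^ a) = 1
          rw [hy, ← zpow_natCast, ← zpow_mul, mul_comm, zpow_mul, zpow_natCast, ha, one_zpow]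
        · refine ⟨1, Subtype.ext ?_⟩
          change y ^ (2 ^ 1) = 1
          obtain ⟨w, hw⟩ : ∃ w, w = t * (g * t * g⁻¹) := ⟨_, rfl⟩
          rw [← hw] at hy hinv
          have h1 : t * w * t⁻¹ = w⁻¹ := by rw [ht']; exact hinv
          have h2 : t * w ^ i * t⁻¹ = w ^ (-i) := by rw [← conj_zpow, h1, inv_zpow, zpow_neg]
          rw [ht'] at h2
          rw [pow_one, pow_two, hy]
          calc w ^ i * t * (w ^ i * t) = w ^ i * (t * w ^ i * t) := by group
            _ = 1 := by rw [h2, ← zpow_add, add_neg_cancel, zpow_zero]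
      exact hp.to_le hle
  obtain ⟨N, hN, hN2, htN⟩ := stepb
  have hzn : (zpowers z).Normal := by
    refine ⟨fun x hx g => ?_⟩
    obtain ⟨i, rfl⟩ := mem_zpowers_iff.1 hx
    have : g * z ^ i * g⁻¹ = z ^ i := by
      have h1 : z ^ i * g = g * z ^ i := ((show Commute z g from hzc g).zpow_left i)
      rw [← h1, mul_inv_cancel_right]
    rw [this]
    exact zpow_mem_zpowers z i
  obtain ⟨R, hRd⟩ : ∃ R : Subgroup K, R = N ⊔ zpowers z := ⟨_, rfl⟩
  have hRn : R.Normal := by rw [hRd]; infer_instance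
  have hZ2 : IsPGroup 2 (zpowers z) := by
    rw [IsPGroup.iff_card]
    exact ⟨1, by rw [Nat.card_zpowers, hoz, pow_one]⟩
  have hR2 : IsPGroup 2 R := by
    rw [hRd]
    exact hN2.to_sup_of_normal_right hZ2
  have hzR : z ∈ R := by rw [hRd]; exact (le_sup_right : zpowers z ≤ _) (mem_zpowers z)
  have htR : t ∈ R := by rw [hRd]; exact (le_sup_left : N ≤ _) (htN (mem_zpowers t))
  -- step d
  obtain ⟨C, hC, hC2, hzC⟩ := (h.subgroup R).exists_cyclic_index_two hR2 (z := ⟨z, hzR⟩) (t := ⟨t, htR⟩)
    (Subtype.ext hz) (fun h' => hz1 (congrArg Subtype.val h')) (fun g => Subtype.ext (hzc g.1))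
    (Subtype.ext ht) (fun h' => ht1 (congrArg Subtype.val h')) (fun h' => hzt (congrArg Subtype.val h'))
  -- an involution of `C` is `z`
  have hCz : ∀ u : R, u * u = 1 → u ≠ 1 → u ∈ C → u = ⟨z, hzR⟩ := by
    intro u hu hu1 huC
    by_contra hne
    have hz' : (⟨z, hzR⟩ : R) * ⟨z, hzR⟩ = 1 := Subtype.ext hz
    have hcu : (⟨z, hzR⟩ : R) * u = u * ⟨z, hzR⟩ := Subtype.ext (hzc u.1)
    apply not_isCyclic_four hz' hu hcu (fun h' => hz1 (congrArg Subtype.val h')) hu1 (Ne.symm hne)
    have hle : four (⟨z, hzR⟩ : R) u hz' hu hcu ≤ C := by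
      rintro y (rfl | rfl | rfl | rfl)
      · exact C.one_mem
      · exact hzC
      · exact huC
      · exact C.mul_mem hzC huC
    exact isCyclic_of_injective (Subgroup.inclusion hle) (Subgroup.inclusion_injective hle)
  have htC : (⟨t, htR⟩ : R) ∉ C := by
    intro h'
    exact hzt (congrArg Subtype.val (hCz ⟨t, htR⟩ (Subtype.ext ht)
      (fun h'' => ht1 (congrArg Subtype.val h'')) h')).symm
  obtain ⟨i, hi⟩ := exists_card_involutions hR2 C hC hC2 (t := ⟨t, htR⟩) (Subtype.ext ht) htC
  -- the set of the involutions `≠ z` of `R`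
  let D : Set K := {u | u ∈ R ∧ u * u = 1 ∧ u ≠ 1 ∧ u ≠ z}
  have hD : Nat.card D = 2 ^ i := by
    rw [← hi]
    refine Nat.card_congr
      { toFun := fun u => ⟨⟨u.1, u.2.1⟩, Subtype.ext u.2.2.1, fun hu => u.2.2.2.2
          (congrArg Subtype.val (hCz ⟨u.1, u.2.1⟩ (Subtype.ext u.2.2.1)
            (fun h' => u.2.2.2.1 (congrArg Subtype.val h')) hu))⟩
        invFun := fun u => ⟨u.1.1, u.1.2, congrArg Subtype.val u.2.1, fun h' => u.2.2 (by
          have : u.1 = 1 := Subtype.ext h'
          rw [this]; exact C.one_mem), fun h' => u.2.2 (by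
          have : u.1 = ⟨z, hzR⟩ := Subtype.ext h'
          rw [this]; exact hzC)⟩
        left_inv := fun u => rfl
        right_inv := fun u => rfl }
  apply isPGroup_two_of_prime
  intro x hx
  by_contra hx2
  haveI : Fact (orderOf x).Prime := ⟨hx⟩
  -- the action of `⟨x⟩` on `D`
  have hact : ∀ g : K, ∀ u ∈ D, g * u * g⁻¹ ∈ D := by
    rintro g u ⟨hu1, hu2, hu3, hu4⟩
    refine ⟨hRn.conj_mem u hu1 g, ?_, ?_, ?_⟩
    · have : g * u * g⁻¹ * (g * u * g⁻¹) = g * (u * u) * g⁻¹ := by group
      rw [this, hu2, mul_one, mul_inv_cancel]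
    · intro h'
      apply hu3
      have : u = g⁻¹ * (g * u * g⁻¹) * g := by group
      rw [this, h', mul_one, inv_mul_cancel]
    · intro h'
      apply hu4
      have : u = g⁻¹ * (g * u * g⁻¹) * g := by group
      rw [this, h', mul_assoc, hzc, inv_mul_cancel_left]
  letI : MulAction (zpowers x) D :=
    { smul := fun g u => ⟨g.1 * u.1 * g.1⁻¹, hact g.1 u.1 u.2⟩
      one_smul := by
        intro u
        apply Subtype.ext
        change (1 : K) * u.1 * (1 : K)⁻¹ = u.1
        rw [one_mul, inv_one, mul_one]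
      mul_smul := by
        intro g k u
        apply Subtype.ext
        change (g.1 * k.1) * u.1 * (g.1 * k.1)⁻¹ = g.1 * (k.1 * u.1 * k.1⁻¹) * g.1⁻¹
        group }
  have hPx : IsPGroup (orderOf x) (zpowers x) := by
    rw [IsPGroup.iff_card]
    exact ⟨1, by rw [Nat.card_zpowers, pow_one]⟩
  have hnd : ¬ orderOf x ∣ Nat.card D := by
    rw [hD]
    intro h'
    exact hx2 ((Nat.prime_dvd_prime_iff_eq hx Nat.prime_two).1 (hx.dvd_of_dvd_pow h'))
  obtain ⟨⟨u, hu⟩, hfix⟩ := hPx.nonempty_fixed_point_of_prime_not_dvd_card D hnd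
  have h1 := hfix ⟨x, mem_zpowers x⟩
  have h2 : x * u * x⁻¹ = u := congrArg Subtype.val h1
  have h3 : u * x = x * u := by rw [eq_comm, ← mul_inv_eq_iff_eq_mul, h2]
  have hxx : x * x = 1 := by
    rcases h.mem_of_comm hz hu.2.1 (hzc u) hz1 hu.2.2.1 (Ne.symm hu.2.2.2) (hzc x) h3 with h' | h' | h' | h'
    · rw [h', one_mul]
    · rw [h', hz]
    · rw [h', hu.2.1]
    · rw [h', mul_assoc, ← mul_assoc u, ← hzc u, mul_assoc z u u, hu.2.1, mul_one, hz]
  apply hx2
  have h4 : orderOf x ∣ 2 := orderOf_dvd_of_pow_eq_one (by rw [pow_two]; exact hxx)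
  exact (Nat.prime_dvd_prime_iff_eq hx Nat.prime_two).1 h4

/-- **Centralizers of involutions are 2-groups.** -/
theorem SCN.cit {G : Type u} [Group G] [Finite G] [IsSimpleGroup G] (h : SCN G)
    (hna : ∃ a b : G, a * b ≠ b * a) (z : G) (hz : orderOf z = 2) :
    IsPGroup 2 (centralizer ({z} : Set G)) := by
  obtain ⟨g, hg1, hg2⟩ := Cfsg.Agent.LargeExtra.W2.NonSimple.exists_commuting z hz hna
  have hzz : z * z = 1 := by rw [← pow_two, ← hz, pow_orderOf_eq_one]
  have hz1 : z ≠ 1 := by
    rintro rfl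
    rw [orderOf_one] at hz
    omega
  obtain ⟨t, ht⟩ : ∃ t, t = g * z * g⁻¹ := ⟨_, rfl⟩
  rw [← ht] at hg1 hg2
  have htt : t * t = 1 := by
    have : t * t = g * (z * z) * g⁻¹ := by rw [ht]; group
    rw [this, hzz, mul_one, mul_inv_cancel]
  have ht1 : t ≠ 1 := by
    intro h'
    apply hz1
    have : z = g⁻¹ * t * g := by rw [ht]; group
    rw [this, h', mul_one, inv_mul_cancel]
  have hzm : z ∈ centralizer ({z} : Set G) := mem_centralizer_singleton_iff.2 rfl
  have htm : t ∈ centralizer ({z} : Set G) := mem_centralizer_singleton_iff.2 hg2.symm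
  exact (h.subgroup (centralizer ({z} : Set G))).isPGroup_of_central (z := ⟨z, hzm⟩) (t := ⟨t, htm⟩)
    (Subtype.ext hzz) (fun h' => hz1 (congrArg Subtype.val h'))
    (fun g => Subtype.ext (mem_centralizer_singleton_iff.1 g.2).symm)
    (Subtype.ext htt) (fun h' => ht1 (congrArg Subtype.val h'))
    (fun h' => hg1 (congrArg Subtype.val h').symm)

/-- The order is divisible by `3`. -/
theorem SCN.three_dvd {G : Type u} [Group G] [Finite G] [IsSimpleGroup G] (h : SCN G)
    (hna : ∃ a b : G, a * b ≠ b * a) (hev : 2 ∣ Nat.card G) : 3 ∣ Nat.card G := by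
  classical
  by_contra h3
  haveI : Fact (Nat.Prime 2) := ⟨Nat.prime_two⟩
  obtain ⟨P⟩ : Nonempty (Sylow 2 G) := inferInstance
  have hfrob : ∀ Q : Subgroup G, Q ≤ (P : Subgroup G) → ∀ g ∈ Subgroup.normalizer (Q : Set G),
      Nat.Coprime (orderOf g) 2 → g ∈ Subgroup.centralizer (Q : Set G) := by
    intro Q hQ g hg hgo
    by_cases hQ1 : Q = ⊥
    · rw [hQ1, mem_centralizer_iff]
      intro y hy
      rw [show y = 1 from hy, one_mul, mul_one]
    by_cases hg1 : g = 1
    · rw [hg1]
      exact one_mem _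
    exfalso
    have hQ2 : IsPGroup 2 Q := P.isPGroup'.to_le hQ
    have hgo1 : orderOf g ≠ 1 := fun h' => hg1 (orderOf_eq_one_iff.1 h')
    obtain ⟨r, hr, hrd⟩ := Nat.exists_prime_and_dvd hgo1
    have hr2 : r ≠ 2 := by
      rintro rfl
      have := Nat.dvd_gcd hrd (dvd_refl 2)
      rw [hgo] at this
      omega
    have hr3 : r ≠ 3 := by
      rintro rfl
      exact h3 (hrd.trans (orderOf_dvd_natCard g))
    have hxo := orderOf_pow_orderOf_div (orderOf_pos g).ne' hrd
    obtain ⟨x, hx⟩ : ∃ x, x = g ^ (orderOf g / r) := ⟨_, rfl⟩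
    rw [← hx] at hxo
    have hxN : x ∈ normalizer (Q : Set G) := by rw [hx]; exact pow_mem hg _
    -- the involutions of the centre of `Q`
    let E : Subgroup G :=
      { carrier := {u | u ∈ Q ∧ (∀ y ∈ Q, u * y = y * u) ∧ u * u = 1}
        mul_mem' := by
          rintro a b ⟨ha, ha', ha''⟩ ⟨hb, hb', hb''⟩
          refine ⟨Q.mul_mem ha hb, fun y hy => ?_, ?_⟩
          · rw [mul_assoc, hb' y hy, ← mul_assoc, ha' y hy, mul_assoc]
          · rw [mul_assoc, ← mul_assoc b, hb' a ha, mul_assoc a b b, hb'', mul_one, ha'']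
        one_mem' := ⟨Q.one_mem, fun y _ => by rw [one_mul, mul_one], one_mul 1⟩
        inv_mem' := by
          rintro a ⟨ha, ha', ha''⟩
          have : a⁻¹ = a := inv_eq_of_mul_eq_one_left ha''
          rw [this]
          exact ⟨ha, ha', ha''⟩ }
    have hE4 : Nat.card E ≤ 4 := h.card_le_four E fun u hu => hu.2.2
    have hE2 : IsPGroup 2 E := by
      rintro ⟨u, hu⟩
      exact ⟨1, Subtype.ext (by change u ^ (2 ^ 1) = 1; rw [pow_one, pow_two]; exact hu.2.2)⟩
    have hE1 : Nat.card E ≠ 1 := by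
      intro hc
      haveI : Nontrivial Q := (nontrivial_iff_ne_bot Q).2 hQ1
      haveI : Nontrivial (center Q) := hQ2.center_nontrivial
      have hd : 2 ∣ Nat.card (center Q) := by
        rcases (hQ2.to_subgroup (center Q)).card_eq_or_dvd with h2 | h2
        · have := Finite.one_lt_card (α := center Q)
          omega
        · exact h2
      obtain ⟨u, hu⟩ := exists_prime_orderOf_dvd_card' 2 hd
      have hu1 : (u : Q) ≠ 1 := by
        intro h'
        have : u = 1 := Subtype.ext h'
        rw [this, orderOf_one] at hu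
        omega
      have huE : ((u : Q) : G) ∈ E := by
        refine ⟨u.1.2, fun y hy => ?_, ?_⟩
        · have := mem_center_iff.1 u.2 ⟨y, hy⟩
          exact (congrArg Subtype.val this).symm
        · have h' : u * u = 1 := by rw [← pow_two, ← hu, pow_orderOf_eq_one]
          exact congrArg (fun v : center Q => ((v : Q) : G)) h'
      have hbot : E = ⊥ := card_eq_one.1 hc
      rw [hbot, mem_bot] at huE
      exact hu1 (Subtype.ext huE)
    have hcard : Nat.card E = 2 ∨ Nat.card E = 4 := by
      obtain ⟨n, hn⟩ := IsPGroup.iff_card.1 hE2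
      have hn2 : n ≤ 2 := by
        by_contra hlt
        push Not at hlt
        have : 2 ^ 3 ≤ 2 ^ n := Nat.pow_le_pow_right (by norm_num) hlt
        omega
      interval_cases n
      · exact absurd hn hE1
      · left; rw [hn]; norm_num
      · right; rw [hn]; norm_num
    -- the action of `x` on the involutions of `E`
    let D : Set G := {u | u ∈ E ∧ u ≠ 1}
    have hDc : Nat.card D + 1 = Nat.card E := by
      have h1 : Nat.card D = Nat.card E - 1 := by
        have h2 : D = (E : Set G) \ {1} := by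
          ext u
          simp only [D, Set.mem_diff, SetLike.mem_coe, Set.mem_singleton_iff]
          exact Iff.rfl
        have h3 : Nat.card D = D.ncard := rfl
        have h4 : Nat.card E = (E : Set G).ncard := rfl
        rw [h3, h4, h2, Set.ncard_diff_singleton_of_mem (one_mem E)]
      have := Nat.card_pos (α := E)
      omega
    have hact : ∀ g ∈ zpowers x, ∀ u ∈ D, g * u * g⁻¹ ∈ D := by
      intro g hg' u hu
      have hgN : g ∈ normalizer (Q : Set G) := (zpowers_le.2 hxN) hg'
      obtain ⟨⟨hu1, hu2, hu3⟩, hu4⟩ := hu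
      refine ⟨⟨?_, ?_, ?_⟩, ?_⟩
      · exact (mem_normalizer_iff.1 hgN u).1 hu1
      · intro y hy
        have hy' : g⁻¹ * y * g ∈ Q := by
          have := (mem_normalizer_iff.1 (inv_mem hgN) y).1 hy
          rwa [inv_inv] at this
        have h5 := hu2 _ hy'
        calc g * u * g⁻¹ * y = g * (u * (g⁻¹ * y * g)) * g⁻¹ := by group
          _ = y * (g * u * g⁻¹) := by rw [h5]; group
      · have : g * u * g⁻¹ * (g * u * g⁻¹) = g * (u * u) * g⁻¹ := by group
        rw [this, hu3, mul_one, mul_inv_cancel]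
      · intro h'
        apply hu4
        have : u = g⁻¹ * (g * u * g⁻¹) * g := by group
        rw [this, h', mul_one, inv_mul_cancel]
    letI : MulAction (zpowers x) D :=
      { smul := fun g u => ⟨g.1 * u.1 * g.1⁻¹, hact g.1 g.2 u.1 u.2⟩
        one_smul := by
          intro u
          apply Subtype.ext
          change (1 : G) * u.1 * (1 : G)⁻¹ = u.1
          rw [one_mul, inv_one, mul_one]
        mul_smul := by
          intro g k u
          apply Subtype.ext
          change (g.1 * k.1) * u.1 * (g.1 * k.1)⁻¹ = g.1 * (k.1 * u.1 * k.1⁻¹) * g.1⁻¹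
          group }
    haveI : Fact r.Prime := ⟨hr⟩
    have hPx : IsPGroup r (zpowers x) := by
      rw [IsPGroup.iff_card]
      exact ⟨1, by rw [Nat.card_zpowers, pow_one, hxo]⟩
    have hnd : ¬ r ∣ Nat.card D := by
      intro h'
      have hr5 : 3 < r := by
        have := hr.two_le
        omega
      have hpos : 0 < Nat.card D := by omega
      have := Nat.le_of_dvd hpos h'
      omega
    obtain ⟨⟨u, hu⟩, hfix⟩ := hPx.nonempty_fixed_point_of_prime_not_dvd_card D hnd
    have h1 := hfix ⟨x, mem_zpowers x⟩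
    have h2 : x * u * x⁻¹ = u := congrArg Subtype.val h1
    have h3' : x * u = u * x := mul_inv_eq_iff_eq_mul.1 h2
    have huo : orderOf u = 2 := orderOf_eq_prime (by rw [pow_two]; exact hu.1.2.2) hu.2
    have hcu := h.cit hna u huo
    have hxu : x ∈ centralizer ({u} : Set G) := mem_centralizer_singleton_iff.2 h3'
    obtain ⟨k, hk⟩ := hcu ⟨x, hxu⟩
    have hk' : x ^ (2 ^ k) = 1 := congrArg Subtype.val hk
    have hd := orderOf_dvd_of_pow_eq_one hk'
    rw [hxo] at hd
    exact hr2 ((Nat.prime_dvd_prime_iff_eq hr Nat.prime_two).1 (hr.dvd_of_dvd_pow hd))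
  obtain ⟨N, hN, hcompl⟩ := (Cfsg.Agent.S0071.result P).2 hfrob
  rcases hN.eq_bot_or_eq_top with h' | h'
  · -- `G` is a 2-group
    have hP : (P : Subgroup G) = ⊤ := by
      rw [h'] at hcompl
      exact isComplement'_bot_left.1 hcompl
    have hG2 : IsPGroup 2 G := by
      have := P.isPGroup'
      rw [hP] at this
      exact this.of_equiv topEquiv
    haveI := hG2.isNilpotent
    have hsol : Group.IsSolvable G := inferInstance
    obtain ⟨a, b, hab⟩ := hna
    exact hab ((IsSimpleGroup.comm_iff_isSolvable.2 hsol) a b)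
  · have hP : (P : Subgroup G) = ⊥ := by
      rw [h'] at hcompl
      exact isComplement'_top_left.1 hcompl
    have h4 := P.card_eq_multiplicity
    rw [hP, card_bot] at h4
    have h5 : 1 ≤ (Nat.card G).factorization 2 := by
      rw [← Nat.Prime.dvd_iff_one_le_factorization Nat.prime_two Nat.card_pos.ne']
      exact hev
    have h6 : 2 ^ 1 ≤ 2 ^ (Nat.card G).factorization 2 := Nat.pow_le_pow_right (by norm_num) h5
    omega

end

end Cfsg.Agent.H479.SelfCent
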