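/-
helper479: task 611 (S5762), the unitary row in cross characteristic.
-/
import Mathlib
import Cfsg.Prelude.Def_ClassicalGeometry
import Cfsg.Agent.H903.SylMeet
import Cfsg.Agent.H903.SylSemi
import Cfsg.Agent.H903.SylRegStmt

set_option autoImplicit false

namespace Cfsg.Agent.H479.SepSU

open Cfsg.Agent.H903.SylSemi Cfsg.Agent.H903.SylReg

/-! ### field automorphisms -/

theorem isCyclic_ringAut (F : Type*) [Field F] [Finite F] : IsCyclic (F ≃+* F) := by
  obtain ⟨p, hp⟩ := CharP.exists F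
  have hpp : Fact p.Prime := ⟨CharP.char_is_prime F p⟩
  let _ : Algebra (ZMod p) F := ZMod.algebra F p
  let φ : (F ≃ₐ[ZMod p] F) →* (F ≃+* F) :=
    { toFun := fun σ => σ.toRingEquiv
      map_one' := rfl
      map_mul' := fun _ _ => rfl }
  have hφ : Function.Surjective φ := by
    intro σ
    refine ⟨AlgEquiv.ofRingEquiv (f := σ) ?_, ?_⟩
    · intro x
      have : (σ : F →+* F).comp (algebraMap (ZMod p) F) = algebraMap (ZMod p) F :=
        Subsingleton.elim _ _
      exact RingHom.congr_fun this x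
    · ext x; rfl
  exact isCyclic_of_surjective φ hφ

theorem ringAut_comm {F : Type*} [Field F] [Finite F] (σ τ : F ≃+* F) (x : F) :
    σ (τ x) = τ (σ x) := by
  have hc := isCyclic_ringAut F
  obtain ⟨g, hg⟩ := hc.exists_generator
  obtain ⟨i, hi⟩ := Subgroup.mem_zpowers_iff.1 (hg σ)
  obtain ⟨j, hj⟩ := Subgroup.mem_zpowers_iff.1 (hg τ)
  have h1 : σ * τ = τ * σ := by
    rw [← hi, ← hj, ← zpow_add, ← zpow_add, add_comm]
  exact DFunLike.congr_fun h1 x

/-- `(b^p - 1)/(b - 1)` is not a power of `p` (`p` odd). -/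
theorem no_prime_pow {p b N k : ℕ} (hp : p.Prime) (hp3 : 3 ≤ p) (hb : 2 ≤ b)
    (hN : N * (b - 1) = b ^ p - 1) (hk : N = p ^ k) : False := by
  have hpo : Odd p := hp.odd_of_ne_two (by omega)
  have hN1 : p < N := by
    by_contra hcon
    push Not at hcon
    have h1 : (b - 1) * b ^ (p - 1) < b ^ p - 1 ∨ b ^ p ≤ 1 := by
      left
      have e : b ^ p = b * b ^ (p - 1) := by
        rw [← pow_succ', Nat.sub_add_cancel hp.one_le]
      have h2 : b ^ 1 < b ^ (p - 1) := Nat.pow_lt_pow_right (by omega) (by omega)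
      rw [pow_one] at h2
      rw [e, Nat.sub_mul, one_mul]
      have h3 : b ^ (p - 1) ≤ b * b ^ (p - 1) := Nat.le_mul_of_pos_left _ (by omega)
      omega
    have h4 : 2 ^ (p - 1) ≤ b ^ (p - 1) := Nat.pow_le_pow_left hb _
    have h5 : p ≤ 2 ^ (p - 1) := by
      have := Nat.lt_two_pow_self (n := p - 1)
      omega
    rcases h1 with h1 | h1
    · have h6 : N * (b - 1) ≤ b ^ (p - 1) * (b - 1) :=
        Nat.mul_le_mul_right _ (by omega)
      rw [hN] at h6
      rw [mul_comm] at h1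
      omega
    · have := Nat.pow_le_pow_left hb p
      have h7 : 2 ^ 1 ≤ 2 ^ p := Nat.pow_le_pow_right (by omega) hp.one_le
      omega
  have hk2 : 2 ≤ k := by
    by_contra hcon
    have : k = 0 ∨ k = 1 := by omega
    rcases this with rfl | rfl
    · rw [hk, pow_zero] at hN1
      have := hp.one_lt
      omega
    · rw [hk, pow_one] at hN1
      omega
  have hpN : p ^ 2 ∣ N := hk ▸ pow_dvd_pow p hk2
  have hb1 : 0 < b - 1 := by omega
  -- `p ∣ b - 1`
  have hpb : p ∣ b - 1 := by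
    have h1 : p ∣ b ^ p - 1 := by
      rw [← hN]; exact Dvd.dvd.mul_right ((dvd_pow_self p two_ne_zero).trans hpN) _
    have : Fact p.Prime := ⟨hp⟩
    have h2 : ((b ^ p - 1 : ℕ) : ZMod p) = 0 := (ZMod.natCast_eq_zero_iff _ _).2 h1
    rw [Nat.cast_sub (Nat.one_le_pow _ _ (by omega)), Nat.cast_pow, ZMod.pow_card] at h2
    rw [← ZMod.natCast_eq_zero_iff, Nat.cast_sub (by omega)]
    simpa using h2
  have : Fact p.Prime := ⟨hp⟩
  have hpb' : ¬ p ∣ b := fun h => by
    have h1 : p ∣ b - (b - 1) := Nat.dvd_sub h hpb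
    have h2 : b - (b - 1) = 1 := by omega
    rw [h2] at h1
    exact hp.one_lt.ne' (Nat.dvd_one.1 h1)
  have h3 := padicValNat.pow_sub_pow (p := p) (x := b) (y := 1) hpo (by omega) (by simpa using hpb)
    hpb' (n := p) hp.ne_zero
  rw [one_pow, ← hN, padicValNat.mul (by rintro rfl; simp at hN1) (by omega),
    padicValNat.self hp.one_lt] at h3
  have h4 : padicValNat p N = 1 := by omega
  rw [hk, padicValNat.prime_pow] at h4
  omega

/-- The field-kill lemma. -/
theorem field_kill {p : ℕ} [Fact p.Prime] (hp : 3 ≤ p) {K : Type*} [Field K] [Finite K]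
    (θ : K ≃+* K) (hθ : orderOf θ = p) : ∃ u : Kˣ, ∀ k : ℕ, ((u : K) / θ u) ^ p ^ k ≠ 1 := by
  classical
  have hpp : p.Prime := Fact.out
  by_contra hcon
  push Not at hcon
  -- fixed field
  let G := Subgroup.zpowers θ
  have hGc : Nat.card G = p := by rw [Nat.card_zpowers, hθ]
  have hGf : Finite G := Nat.finite_of_card_ne_zero (by rw [hGc]; exact hpp.ne_zero)
  have : Fintype G := Fintype.ofFinite G
  have h1 : Module.finrank (FixedPoints.subfield G K) K = Fintype.card G :=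
    FixedPoints.finrank_eq_card G K
  rw [← Nat.card_eq_fintype_card, hGc] at h1
  let K₀ := FixedPoints.subfield G K
  have h2 : Nat.card K = Nat.card K₀ ^ p := by
    rw [← h1]; exact Module.natCard_eq_pow_finrank (K := K₀) (V := K)
  have hfix : ∀ x : K, x ∈ K₀ ↔ θ x = x := by
    intro x
    constructor
    · intro h
      exact h ⟨θ, Subgroup.mem_zpowers θ⟩
    · intro h g
      obtain ⟨g, i, rfl⟩ := g
      have h3 : ∀ n : ℕ, (θ ^ n) x = x := by
        intro n
        induction n with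
        | zero => rfl
        | succ n ih => rw [pow_succ]; change (θ ^ n) (θ x) = x; rw [h, ih]
      have h4 : θ ^ i = θ ^ (i % (orderOf θ : ℤ)).toNat := by
        rw [← zpow_natCast, Int.toNat_of_nonneg (Int.emod_nonneg _ (by rw [hθ]; exact_mod_cast hpp.ne_zero)),
          zpow_mod_orderOf]
      change (θ ^ i) x = x
      rw [h4]; exact h3 _
  -- the homomorphism `u ↦ u / θ u`
  let f : Kˣ →* Kˣ :=
    { toFun := fun u => u / Units.map θ.toMonoidHom u
      map_one' := by simp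
      map_mul' := fun a b => by rw [map_mul, mul_div_mul_comm] }
  have hf : ∀ u : Kˣ, ((f u : Kˣ) : K) = (u : K) / θ u := fun u => by
    change ((u / Units.map θ.toMonoidHom u : Kˣ) : K) = _
    rw [Units.val_div_eq_div_val]; rfl
  have hker : Nat.card f.ker = Nat.card K₀ - 1 := by
    have e : f.ker ≃ K₀ˣ :=
      { toFun := fun u => Units.mk0 ⟨(u : Kˣ), by
            have h3 := MonoidHom.mem_ker.1 u.2
            rw [hfix]
            have h4 := hf u
            rw [h3, Units.val_one] at h4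
            have h5 : θ ((u : Kˣ) : K) ≠ 0 := by
              rw [Ne, map_eq_zero_iff θ θ.injective]; exact (u : Kˣ).ne_zero
            rw [eq_comm, div_eq_one_iff_eq h5] at h4
            exact h4.symm⟩ (by
              intro h
              exact (u : Kˣ).ne_zero (congrArg Subtype.val h))
        invFun := fun w => ⟨Units.mk0 ((w : K₀) : K) (by
              intro h
              exact w.ne_zero (Subtype.ext h)), by
            rw [MonoidHom.mem_ker]
            apply Units.ext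
            rw [hf, Units.val_one, Units.val_mk0, (hfix _).1 (w : K₀).2, div_self]
            intro h
            exact w.ne_zero (Subtype.ext h)⟩
        left_inv := fun u => by ext; rfl
        right_inv := fun w => by ext; rfl }
    rw [Nat.card_congr e, Nat.card_units]
  have hrange : Nat.card f.range * (Nat.card K₀ - 1) = Nat.card K₀ ^ p - 1 := by
    rw [← hker, ← h2, ← Nat.card_units]
    have h3 := Subgroup.card_mul_index f.ker
    rw [Subgroup.index_ker] at h3
    rw [mul_comm]; exact h3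
  have hpg : IsPGroup p f.range := by
    rintro ⟨x, u, rfl⟩
    obtain ⟨k, hk⟩ := hcon u
    refine ⟨k, ?_⟩
    apply Subtype.ext
    apply Units.ext
    simp only [SubmonoidClass.coe_pow, OneMemClass.coe_one, Units.val_pow_eq_pow_val, Units.val_one]
    rw [hf]; exact hk
  obtain ⟨k, hk⟩ := hpg.exists_card_eq
  exact no_prime_pow hpp hp (Finite.one_lt_card : 1 < Nat.card K₀) hrange hk

/-- The field-kill lemma inside the fixed field of an involution. -/
theorem field_kill_fix {p : ℕ} [Fact p.Prime] (hp : 3 ≤ p) {F : Type*} [Field F] [Finite F]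
    (σ : F ≃+* F) (hσ : ∀ a, σ (σ a) = a) (θ : F ≃+* F) (hθ : orderOf θ = p) :
    ∃ u : F, u ≠ 0 ∧ σ u = u ∧ ∀ k : ℕ, (u / θ u) ^ p ^ k ≠ 1 := by
  have hpp : p.Prime := Fact.out
  let K : Subfield F := RingHom.eqLocusField (σ : F →+* F) (RingHom.id F)
  have hK : ∀ x, x ∈ K ↔ σ x = x := fun x => Iff.rfl
  have hθK : ∀ x ∈ K, θ x ∈ K := fun x hx => by
    rw [hK, ringAut_comm, (hK x).1 hx]
  have hθK' : ∀ x ∈ K, θ.symm x ∈ K := fun x hx => by
    rw [hK, ringAut_comm, (hK x).1 hx]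
  let θK : K ≃+* K :=
    { toFun := fun x => ⟨θ x, hθK x x.2⟩
      invFun := fun x => ⟨θ.symm x, hθK' x x.2⟩
      left_inv := fun x => Subtype.ext (θ.symm_apply_apply _)
      right_inv := fun x => Subtype.ext (θ.apply_symm_apply _)
      map_mul' := fun x y => Subtype.ext (map_mul θ _ _)
      map_add' := fun x y => Subtype.ext (map_add θ _ _) }
  have hpow : ∀ (n : ℕ) (x : K), (((θK ^ n) x : K) : F) = (θ ^ n) x := by
    intro n
    induction n with
    | zero => intro x; rfl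
    | succ n ih => intro x; rw [pow_succ, pow_succ]; exact ih (θK x)
  have hord : orderOf θK = p := by
    refine orderOf_eq_prime ?_ ?_
    · ext x
      rw [hpow, ← hθ, pow_orderOf_eq_one]; rfl
    · intro hcon
      have h1 : ∀ x ∈ K, θ x = x := fun x hx => by
        have := DFunLike.congr_fun hcon (⟨x, hx⟩ : K)
        exact congrArg Subtype.val this
      have h2 : θ ^ 2 = 1 := by
        ext x
        change θ (θ x) = x
        have h3 : θ (x + σ x) = x + σ x := h1 _ (by rw [hK, map_add, hσ, add_comm])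
        have h4 : θ (x * σ x) = x * σ x := h1 _ (by rw [hK, map_mul, hσ, mul_comm])
        rw [map_add] at h3
        rw [map_mul] at h4
        have h5 : (θ x - x) * (θ x - σ x) = 0 := by linear_combination (θ x) * h3 - h4
        rcases mul_eq_zero.1 h5 with h6 | h6
        · rw [sub_eq_zero] at h6; rw [h6, h6]
        · rw [sub_eq_zero] at h6
          rw [h6, ringAut_comm, h6, hσ]
      have h3 : p ∣ 2 := hθ ▸ orderOf_dvd_of_pow_eq_one h2
      have := Nat.le_of_dvd (by norm_num) h3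
      omega
  obtain ⟨u, hu⟩ := field_kill hp θK hord
  refine ⟨((u : K) : F), ?_, (hK _).1 (u : K).2, fun k hk => hu k ?_⟩
  · intro h
    exact u.ne_zero (Subtype.ext h)
  · apply Subtype.ext
    have e : (((((u : K) / θK u) ^ p ^ k : K)) : F) = (((u : K) : F) / θ ((u : K) : F)) ^ p ^ k := by
      rw [SubmonoidClass.coe_pow]; rfl
    rw [e]; exact hk

/-! ### hermitian forms and transvections -/

section herm

variable {F : Type*} [Field F] {E : Type*} [AddCommGroup E] [Module F E]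

/-- A non-degenerate hermitian form, linear in the first variable. -/
structure Herm (σ : F ≃+* F) (h : E → E → F) : Prop where
  inv : ∀ a, σ (σ a) = a
  add : ∀ x y z, h (x + y) z = h x z + h y z
  smul : ∀ (a : F) x y, h (a • x) y = a * h x y
  sym : ∀ x y, h y x = σ (h x y)
  nd : ∀ x, (∀ y, h x y = 0) → x = 0

variable {σ : F ≃+* F} {h : E → E → F} (H : Herm σ h)
include H

theorem Herm.zero_left (y : E) : h 0 y = 0 := by
  have := H.smul 0 0 y
  rwa [zero_smul, zero_mul] at this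

theorem Herm.add_right (x y z : E) : h x (y + z) = h x y + h x z := by
  rw [H.sym (y + z) x, H.add, map_add, ← H.sym, ← H.sym]

theorem Herm.smul_right (a : F) (x y : E) : h x (a • y) = σ a * h x y := by
  rw [H.sym (a • y) x, H.smul, map_mul, ← H.sym]

theorem Herm.nd' {x : E} (hx : x ≠ 0) : ∃ y, h y x ≠ 0 := by
  by_contra hcon
  push Not at hcon
  refine hx (H.nd x fun y => ?_)
  rw [H.sym y x, hcon, map_zero]

/-- The functional `h(·, v)`. -/
def Herm.fn (v : E) : E →ₗ[F] F where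
  toFun x := h x v
  map_add' x y := H.add x y v
  map_smul' a x := H.smul a x v

@[simp] theorem Herm.fn_apply (v x : E) : H.fn v x = h x v := rfl

/-- The transvection `x ↦ x + c h(x,v) v`. -/
def Herm.tv (v : E) (hv : h v v = 0) (c : F) : E ≃ₗ[F] E where
  toFun x := x + (c * h x v) • v
  invFun x := x + (-c * h x v) • v
  map_add' x y := by rw [H.add]; module
  map_smul' a x := by rw [H.smul]; simp only [RingHom.id_apply]; module
  left_inv x := by
    simp only [H.add, H.smul, hv, mul_zero, add_zero]; module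
  right_inv x := by
    simp only [H.add, H.smul, hv, mul_zero, add_zero]; module

@[simp] theorem Herm.tv_apply (v : E) (hv : h v v = 0) (c : F) (x : E) :
    H.tv v hv c x = x + (c * h x v) • v := rfl

theorem Herm.tv_isom (v : E) (hv : h v v = 0) {c : F} (hc : c + σ c = 0) (x y : E) :
    h (H.tv v hv c x) (H.tv v hv c y) = h x y := by
  simp only [Herm.tv_apply, H.add, H.add_right, H.smul, H.smul_right, hv, mul_zero, add_zero,
    map_mul]
  rw [← H.sym y v]
  linear_combination (h x v * h v y) * hc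

theorem Herm.tv_det (v : E) (hv : h v v = 0) (c : F) [Module.Finite F E] :
    LinearMap.det (H.tv v hv c : E →ₗ[F] E) = 1 := by
  have e : (H.tv v hv c : E →ₗ[F] E) = LinearMap.transvection (c • H.fn v) v := by
    ext x
    simp [LinearMap.transvection.apply]
  rw [e, LinearMap.transvection.det]
  simp [hv]

end herm

/-! ### the transvection trick -/

section main

/-- Linear maps as permutations. -/
def io (F : Type*) [Field F] (E : Type*) [AddCommGroup E] [Module F E] :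
    (E ≃ₗ[F] E) →* Equiv.Perm E := MulAction.toPermHom _ _

variable {F : Type*} [Field F] {E : Type*} [AddCommGroup E] [Module F E]

@[simp] theorem io_apply (r : E ≃ₗ[F] E) (x : E) : io F E r x = r x := rfl

theorem io_injective : Function.Injective (io F E) := by
  intro a b hab
  ext x
  exact DFunLike.congr_fun hab x

/-- Semisimilarities. -/
def SemiH (h : E → E → F) (y : Equiv.Perm E) (θ : F ≃+* F) (τ : F) : Prop :=
  τ ≠ 0 ∧ Semi F y θ ∧ ∀ u v, h (y u) (y v) = τ * θ (h u v)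

theorem semi_one : Semi F (1 : Equiv.Perm E) (1 : F ≃+* F) :=
  ⟨fun _ _ => rfl, fun _ _ => rfl⟩

theorem semi_mul {y y' : Equiv.Perm E} {θ θ' : F ≃+* F} (h : Semi F y θ) (h' : Semi F y' θ') :
    Semi F (y * y') (θ * θ') := by
  refine ⟨fun u v => ?_, fun a v => ?_⟩
  · simp only [Equiv.Perm.mul_apply, h'.1, h.1]
  · simp only [Equiv.Perm.mul_apply, h'.2, h.2]; rfl

theorem semi_unique {y : Equiv.Perm E} {θ θ' : F ≃+* F} (h : Semi F y θ) (h' : Semi F y θ')
    {v : E} (hv : v ≠ 0) : θ = θ' := by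
  ext a
  have h1 := h.2 a v
  rw [h'.2 a v] at h1
  have h2 : y v ≠ 0 := by
    intro h3
    have h4 : y 0 = 0 := by
      have := h.1 0 0
      rw [add_zero] at this
      exact left_eq_add.1 this
    exact hv (y.injective (h3.trans h4.symm))
  exact (smul_left_injective F h2 h1).symm

theorem semiH_mul {h : E → E → F} {y y' : Equiv.Perm E} {θ θ' : F ≃+* F} {τ τ' : F}
    (hy : SemiH h y θ τ) (hy' : SemiH h y' θ' τ') :
    SemiH h (y * y') (θ * θ') (τ * θ τ') := by
  refine ⟨mul_ne_zero hy.1 (by rw [Ne, map_eq_zero_iff θ θ.injective]; exact hy'.1),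
    semi_mul hy.2.1 hy'.2.1, fun u v => ?_⟩
  rw [Equiv.Perm.mul_apply, Equiv.Perm.mul_apply, hy.2.2, hy'.2.2, map_mul]
  change _ = τ * θ τ' * θ (θ' _)
  ring

theorem semiH_inv {h : E → E → F} {y : Equiv.Perm E} {θ : F ≃+* F} {τ : F}
    (hy : SemiH h y θ τ) : SemiH h y⁻¹ θ⁻¹ (θ.symm τ)⁻¹ := by
  have hyi : ∀ x, y (y⁻¹ x) = x := fun x => by simp
  refine ⟨inv_ne_zero (by rw [Ne, map_eq_zero_iff _ θ.symm.injective]; exact hy.1),
    ⟨fun u v => ?_, fun a v => ?_⟩, fun u v => ?_⟩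
  · apply y.injective
    rw [hy.2.1.1, hyi, hyi, hyi]
  · apply y.injective
    rw [hy.2.1.2, hyi, hyi]
    change _ = θ (θ.symm a) • v
    rw [θ.apply_symm_apply]
  · have h1 := hy.2.2 (y⁻¹ u) (y⁻¹ v)
    rw [hyi, hyi] at h1
    rw [h1]
    change _ = _ * θ.symm _
    rw [map_mul, θ.symm_apply_apply, ← mul_assoc, inv_mul_cancel₀, one_mul]
    rw [Ne, map_eq_zero_iff _ θ.symm.injective]; exact hy.1

/-- The linear isometries in `Γ`. -/
def RR (Γ : Subgroup (Equiv.Perm E)) (h : E → E → F) : Subgroup (E ≃ₗ[F] E) where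
  carrier := {r | io F E r ∈ Γ ∧ ∀ x y, h (r x) (r y) = h x y}
  mul_mem' := by
    rintro a b ⟨h1, h2⟩ ⟨h3, h4⟩
    refine ⟨by rw [map_mul]; exact Γ.mul_mem h1 h3, fun x y => ?_⟩
    rw [LinearEquiv.mul_apply, LinearEquiv.mul_apply, h2, h4]
  one_mem' := ⟨by rw [map_one]; exact Γ.one_mem, fun x y => rfl⟩
  inv_mem' := by
    rintro a ⟨h1, h2⟩
    refine ⟨by rw [map_inv]; exact Γ.inv_mem h1, fun x y => ?_⟩
    rw [← h2 (a⁻¹ x) (a⁻¹ y)]
    have h3 : ∀ z, a (a⁻¹ z) = z := fun z => a.apply_symm_apply z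
    rw [h3, h3]

theorem RR_pgroup {p : ℕ} {Γ : Subgroup (Equiv.Perm E)} (hΓ : IsPGroup p Γ) (h : E → E → F) :
    IsPGroup p (RR Γ h) := by
  rintro ⟨r, hr1, hr2⟩
  obtain ⟨k, hk⟩ := hΓ ⟨_, hr1⟩
  refine ⟨k, ?_⟩
  apply Subtype.ext
  apply io_injective
  have h1 := congrArg Subtype.val hk
  simp only [SubmonoidClass.coe_pow, OneMemClass.coe_one] at h1 ⊢
  rw [map_pow, h1, map_one]

variable [FiniteDimensional F E] {σ : F ≃+* F} {h : E → E → F}

theorem step (H : Herm σ h) (h3 : 3 ≤ Module.finrank F E) {p : ℕ}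
    {Γ : Subgroup (Equiv.Perm E)} (hΓ : IsPGroup p Γ)
    (hscal : ∀ a : Fˣ, (∃ k : ℕ, a ^ p ^ k = 1) → scal F E a ∈ Γ)
    {v : E} (hv0 : v ≠ 0) (hv : h v v = 0) (hav : Avoid (RR Γ h) v)
    {c : F} (hc0 : c ≠ 0) (hc : c + σ c = 0) {y : Equiv.Perm E} (hyΓ : y ∈ Γ) {θ : F ≃+* F} {τ : F}
    (hθσ : ∀ x, σ (θ x) = θ (σ x))
    (hy : SemiH h y θ τ) {a : Fˣ}
    (ha : scal F E a * (io F E (H.tv v hv c) * y * (io F E (H.tv v hv c))⁻¹) ∈ Γ) :
    ∃ l : F, l ≠ 0 ∧ y v = l • v ∧ c = θ c * τ⁻¹ * l * σ l := by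
  obtain ⟨hτ, hys, hyh⟩ := hy
  have hw0 : y v ≠ 0 := by
    intro h3
    have h4 : y 0 = 0 := by
      have := hys.1 0 0
      rw [add_zero] at this
      exact left_eq_add.1 this
    exact hv0 (y.injective (h3.trans h4.symm))
  have hw : h (y v) (y v) = 0 := by rw [hyh, hv, map_zero, mul_zero]
  obtain ⟨c', hc'⟩ : ∃ c', c' = θ c * τ⁻¹ := ⟨_, rfl⟩
  -- `σ τ = τ`
  have hτσ : σ τ = τ := by
    obtain ⟨u, hu⟩ := H.nd' hv0
    have h1 := hyh u v
    have h2 := hyh v u
    rw [H.sym (y u) (y v), h1, map_mul, hθσ, ← H.sym u v] at h2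
    have h5 : θ (h v u) ≠ 0 := by
      rw [Ne, map_eq_zero_iff θ θ.injective, H.sym u v, map_eq_zero_iff σ σ.injective]
      exact hu
    exact mul_right_cancel₀ h5 h2
  have hcc' : c' + σ c' = 0 := by
    rw [hc', map_mul, map_inv₀, hτσ, hθσ, ← add_mul, ← map_add, hc, map_zero, zero_mul]
  -- conjugation of the transvection
  have hconj : y * io F E (H.tv v hv c) * y⁻¹ = io F E (H.tv (y v) hw c') := by
    ext x
    have hyi : y (y⁻¹ x) = x := by simp
    rw [Equiv.Perm.mul_apply, Equiv.Perm.mul_apply, io_apply, io_apply, H.tv_apply, H.tv_apply,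
      hys.1, hys.2, hyi, map_mul]
    have h1 := hyh (y⁻¹ x) v
    rw [hyi] at h1
    rw [hc', h1]
    congr 2
    field_simp
  obtain ⟨z, hz⟩ : ∃ z : E ≃ₗ[F] E, z = H.tv v hv c * (H.tv (y v) hw c')⁻¹ := ⟨_, rfl⟩
  have hzΓ' : scal F E a * io F E z ∈ Γ := by
    have h1 := Γ.mul_mem ha (Γ.inv_mem hyΓ)
    have h2 : scal F E a * io F E z =
        scal F E a * (io F E (H.tv v hv c) * y * (io F E (H.tv v hv c))⁻¹) * y⁻¹ := by
      rw [hz, map_mul, map_inv, ← hconj]
      group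
    rw [h2]; exact h1
  have hgi : ∀ x, h x (y v) = 0 → (H.tv (y v) hw c')⁻¹ x = x := by
    intro x hx
    have h1 : H.tv (y v) hw c' x = x := by simp [hx]
    have h2 : (H.tv (y v) hw c')⁻¹ (H.tv (y v) hw c' x) = x :=
      (H.tv (y v) hw c').symm_apply_apply x
    rwa [h1] at h2
  -- `a` has `p`-power order
  have hap : ∃ k : ℕ, a ^ p ^ k = 1 := by
    obtain ⟨k, hk⟩ := hΓ ⟨_, hzΓ'⟩
    have hk' : (scal F E a * io F E z) ^ p ^ k = 1 := congrArg Subtype.val hk
    refine ⟨k, ?_⟩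
    let f : E →ₗ[F] F × F := (H.fn v).prod (H.fn (y v))
    have hf : LinearMap.ker f ≠ ⊥ := by
      apply LinearMap.ker_ne_bot_of_finrank_lt
      rw [Module.finrank_prod, Module.finrank_self]
      omega
    obtain ⟨u, hu, hu0⟩ := (Submodule.ne_bot_iff _).1 hf
    rw [LinearMap.mem_ker] at hu
    have hu1 : h u v = 0 := congrArg Prod.fst hu
    have hu2 : h u (y v) = 0 := congrArg Prod.snd hu
    have hfix : ∀ b : F, io F E z (b • u) = b • u := by
      intro b
      rw [io_apply, map_smul, hz]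
      rw [LinearEquiv.mul_apply, hgi u hu2, H.tv_apply, hu1]
      simp
    have hpw : ∀ m : ℕ, ((scal F E a * io F E z) ^ m) u = ((a : F) ^ m) • u := by
      intro m
      induction m with
      | zero => simp
      | succ m ih =>
        rw [pow_succ', Equiv.Perm.mul_apply, ih, Equiv.Perm.mul_apply, hfix, scal_apply,
          smul_smul, pow_succ']
    have h1 := hpw (p ^ k)
    rw [hk', Equiv.Perm.one_apply] at h1
    have h2 : ((a : F) ^ p ^ k) = 1 := by
      have : ((a : F) ^ p ^ k) • u = (1 : F) • u := by rw [one_smul]; exact h1.symm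
      exact smul_left_injective F hu0 this
    apply Units.ext
    rw [Units.val_pow_eq_pow_val, h2, Units.val_one]
  have hzΓ : io F E z ∈ Γ := by
    have h1 := Γ.mul_mem (Γ.inv_mem (hscal a hap)) hzΓ'
    rwa [inv_mul_cancel_left] at h1
  have hzR : z ∈ RR Γ h := by
    refine ⟨hzΓ, fun x x' => ?_⟩
    rw [hz, LinearEquiv.mul_apply, LinearEquiv.mul_apply, H.tv_isom v hv hc]
    have h1 : ∀ t, H.tv (y v) hw c' ((H.tv (y v) hw c')⁻¹ t) = t :=
      fun t => (H.tv (y v) hw c').apply_symm_apply t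
    rw [← H.tv_isom (y v) hw hcc', h1, h1]
  -- the commutator space
  have hmem : ∀ x, (c * h x v) • v - (c' * h x (y v)) • y v ∈ com z := by
    intro x
    refine ⟨H.tv (y v) hw c' x, ?_⟩
    have h1 : z (H.tv (y v) hw c' x) = H.tv v hv c x := by
      rw [hz, LinearEquiv.mul_apply]
      congr 1
      exact (H.tv (y v) hw c').symm_apply_apply x
    rw [LinearMap.sub_apply, LinearMap.id_apply, LinearEquiv.coe_coe, h1, H.tv_apply, H.tv_apply]
    abel
  have hle : com z ≤ Submodule.span F {v, y v} := by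
    rintro t ⟨x, rfl⟩
    obtain ⟨x', rfl⟩ : ∃ x', x = H.tv (y v) hw c' x' :=
      ⟨(H.tv (y v) hw c').symm x, ((H.tv (y v) hw c').apply_symm_apply x).symm⟩
    have h1 : z (H.tv (y v) hw c' x') = H.tv v hv c x' := by
      rw [hz, LinearEquiv.mul_apply]
      congr 1
      exact (H.tv (y v) hw c').symm_apply_apply x'
    rw [LinearMap.sub_apply, LinearMap.id_apply, LinearEquiv.coe_coe, h1, H.tv_apply, H.tv_apply]
    have h2 : x' + (c * h x' v) • v - (x' + (c' * h x' (y v)) • y v) =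
        (c * h x' v) • v - (c' * h x' (y v)) • y v := by abel
    rw [h2]
    exact Submodule.sub_mem _ (Submodule.smul_mem _ _ (Submodule.subset_span (by simp)))
      (Submodule.smul_mem _ _ (Submodule.subset_span (by simp)))
  have hfr : Module.finrank F (com z) ≤ 2 := by
    classical
    refine (Submodule.finrank_mono hle).trans ?_
    have h1 := finrank_span_finset_le_card (R := F) ({v, y v} : Finset E)
    rw [Finset.coe_insert, Finset.coe_singleton] at h1
    exact h1.trans Finset.card_le_two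
  have hvn : v ∉ com z := by
    intro hvz
    by_cases hz1 : z = 1
    · rw [hz1] at hvz
      obtain ⟨x, hx⟩ := hvz
      rw [LinearMap.sub_apply, LinearMap.id_apply] at hx
      have : ((1 : E ≃ₗ[F] E) : E →ₗ[F] E) x = x := rfl
      rw [this, sub_self] at hx
      exact hv0 hx.symm
    · have := hav z hzR hz1 hvz
      omega
  -- `h x (y v) = 0` implies `h x v = 0`
  have hk1 : ∀ x, h x (y v) = 0 → h x v = 0 := by
    intro x hx
    by_contra hx0
    apply hvn
    have h1 := hmem x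
    rw [hx, mul_zero, zero_smul, sub_zero] at h1
    have h2 := (com z).smul_mem (c * h x v)⁻¹ h1
    rwa [smul_smul, inv_mul_cancel₀ (mul_ne_zero hc0 hx0), one_smul] at h2
  obtain ⟨x0, hx0⟩ := H.nd' hw0
  have hmul : ∀ x, h x v = (h x0 v / h x0 (y v)) * h x (y v) := by
    intro x
    have h1 : h (x + (-(h x (y v) / h x0 (y v))) • x0) (y v) = 0 := by
      rw [H.add, H.smul]; field_simp; ring
    have h2 := hk1 _ h1
    rw [H.add, H.smul] at h2
    have h3 : h x v = (h x (y v) / h x0 (y v)) * h x0 v := by linear_combination h2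
    rw [h3]; ring
  obtain ⟨μ, hμ⟩ : ∃ μ, μ = h x0 v / h x0 (y v) := ⟨_, rfl⟩
  rw [← hμ] at hmul
  have hvy : v = σ μ • y v := by
    have h1 : v + (-(σ μ)) • y v = 0 := by
      apply H.nd
      intro x
      rw [H.sym x, H.add_right, H.smul_right, map_neg, H.inv, hmul x]
      rw [neg_mul, add_neg_cancel, map_zero]
    rw [neg_smul, ← sub_eq_add_neg, sub_eq_zero] at h1
    exact h1
  have hμ0 : σ μ ≠ 0 := by
    intro h0
    rw [h0, zero_smul] at hvy
    exact hv0 hvy
  refine ⟨(σ μ)⁻¹, inv_ne_zero hμ0, ?_, ?_⟩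
  · conv_rhs => rw [hvy]
    rw [smul_smul, inv_mul_cancel₀ hμ0, one_smul]
  · by_contra hne
    obtain ⟨x1, hx1⟩ := H.nd' hv0
    apply hvn
    have hyv : y v = (σ μ)⁻¹ • v := by
      conv_rhs => rw [hvy]
      rw [smul_smul, inv_mul_cancel₀ hμ0, one_smul]
    have h1 := hmem x1
    rw [hyv, H.smul_right, smul_smul, ← sub_smul] at h1
    have h2 : c * h x1 v - c' * (σ (σ μ)⁻¹ * h x1 v) * (σ μ)⁻¹ =
        (c - θ c * τ⁻¹ * (σ μ)⁻¹ * σ (σ μ)⁻¹) * h x1 v := by
      rw [hc']; ring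
    rw [h2] at h1
    have h3 : (c - θ c * τ⁻¹ * (σ μ)⁻¹ * σ (σ μ)⁻¹) * h x1 v ≠ 0 :=
      mul_ne_zero (sub_ne_zero.2 hne) hx1
    have h4 := (com z).smul_mem ((c - θ c * τ⁻¹ * (σ μ)⁻¹ * σ (σ μ)⁻¹) * h x1 v)⁻¹ h1
    rwa [smul_smul, inv_mul_cancel₀ h3, one_smul] at h4

end main

section final

theorem mem_zpowers_of_order {G : Type*} [Group G] [Finite G] [IsCyclic G] {a b : G}
    (h : orderOf a = orderOf b) : a ∈ Subgroup.zpowers b := by
  classical
  have : Fintype G := Fintype.ofFinite G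
  have h1 := IsCyclic.card_pow_eq_one_le (α := G) (orderOf_pos b)
  have h2 : (Finset.univ.filter (fun x => x ∈ Subgroup.zpowers b)) ⊆
      Finset.univ.filter (fun x => x ^ orderOf b = 1) := by
    intro x hx
    rw [Finset.mem_filter] at hx ⊢
    refine ⟨Finset.mem_univ _, ?_⟩
    obtain ⟨i, rfl⟩ := hx.2
    change (b ^ i) ^ orderOf b = 1
    rw [← zpow_natCast, ← zpow_mul, mul_comm, zpow_mul, zpow_natCast, pow_orderOf_eq_one, one_zpow]
  have h3 : (Finset.univ.filter (fun x => x ∈ Subgroup.zpowers b)).card = orderOf b := by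
    rw [← Nat.card_zpowers, Nat.card_eq_fintype_card, Fintype.card_subtype]
  have h4 := Finset.eq_of_subset_of_card_le h2 (h1.trans h3.ge)
  have h5 : a ∈ Finset.univ.filter (fun x : G => x ^ orderOf b = 1) := by
    rw [Finset.mem_filter]
    exact ⟨Finset.mem_univ _, by rw [← h, pow_orderOf_eq_one]⟩
  rw [← h4, Finset.mem_filter] at h5
  exact h5.2

variable {F : Type*} [Field F] [Finite F] {E : Type*} [AddCommGroup E] [Module F E] [Finite E]

omit [Finite F] [Finite E] in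
theorem exists_linear {y : Equiv.Perm E} (hy : Semi F y (1 : F ≃+* F)) :
    ∃ r : E ≃ₗ[F] E, io F E r = y :=
  ⟨{ toFun := y
     invFun := y.symm
     map_add' := hy.1
     map_smul' := hy.2
     left_inv := y.left_inv
     right_inv := y.right_inv }, by ext x; rfl⟩

omit [Finite F] [Finite E] in
theorem lin_data {σ : F ≃+* F} {h : E → E → F} (H : Herm σ h) {y : Equiv.Perm E} {τ l : F} {v : E}
    (hv0 : v ≠ 0) (hy : SemiH h y (1 : F ≃+* F) τ) (hyv : y v = l • v) {N : ℕ} (hN : y ^ N = 1) :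
    l ^ N = 1 ∧ τ ^ N = 1 := by
  have h1 : ∀ m : ℕ, (y ^ m) v = l ^ m • v := by
    intro m
    induction m with
    | zero => simp
    | succ m ih =>
      rw [pow_succ', Equiv.Perm.mul_apply, ih, hy.2.1.2, hyv, smul_smul, pow_succ]
      rfl
  have h2 : ∀ (m : ℕ) (u w : E), h ((y ^ m) u) ((y ^ m) w) = τ ^ m * h u w := by
    intro m
    induction m with
    | zero => intro u w; simp
    | succ m ih =>
      intro u w
      rw [pow_succ', Equiv.Perm.mul_apply, Equiv.Perm.mul_apply, hy.2.2, ih, pow_succ']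
      change τ * (τ ^ m * h u w) = _
      ring
  constructor
  · have h3 := h1 N
    rw [hN, Equiv.Perm.one_apply] at h3
    have : (l ^ N) • v = (1 : F) • v := by rw [one_smul]; exact h3.symm
    exact smul_left_injective F hv0 this
  · obtain ⟨u, hu⟩ := H.nd' hv0
    have h3 := h2 N u v
    rw [hN, Equiv.Perm.one_apply, Equiv.Perm.one_apply] at h3
    have : τ ^ N * h u v = 1 * h u v := by rw [one_mul]; exact h3.symm
    exact mul_right_cancel₀ hu this

/-- `y` stabilises the line of `v` and commutes with the transvection with parameter `c`. -/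
def Fx (σ : F ≃+* F) (h : E → E → F) (v : E) (c : F) (y : Equiv.Perm E) (θ : F ≃+* F) (τ l : F) :
    Prop :=
  SemiH h y θ τ ∧ l ≠ 0 ∧ y v = l • v ∧ c = θ c * τ⁻¹ * l * σ l

omit [Finite E] in
theorem fx_pow {σ : F ≃+* F} {h : E → E → F} {v : E} {c : F} {y : Equiv.Perm E} {θ : F ≃+* F}
    {τ l : F} (hy : Fx σ h v c y θ τ l) (m : ℕ) :
    ∃ τ' l', Fx σ h v c (y ^ m) (θ ^ m) τ' l' := by
  induction m with
  | zero =>
    refine ⟨1, 1, ⟨one_ne_zero, semi_one, fun u v => ?_⟩, one_ne_zero, ?_, ?_⟩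
    · change h u v = 1 * h u v
      rw [one_mul]
    · rw [pow_zero, one_smul]; rfl
    · rw [map_one, inv_one, mul_one, mul_one, mul_one]; rfl
  | succ m ih =>
    obtain ⟨τ', l', h1, h2, h3, h4⟩ := ih
    obtain ⟨g1, g2, g3, g4⟩ := hy
    refine ⟨τ * θ τ', θ l' * l, ?_, mul_ne_zero (by
      rw [Ne, map_eq_zero_iff θ θ.injective]; exact h2) g2, ?_, ?_⟩
    · rw [pow_succ', pow_succ']
      exact semiH_mul g1 h1
    · rw [pow_succ', Equiv.Perm.mul_apply, h3, g1.2.1.2, g3, smul_smul]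
    · have h5 : θ c = θ ((θ ^ m) c) * (θ τ')⁻¹ * θ l' * θ (σ l') := by
        conv_lhs => rw [h4]
        rw [map_mul, map_mul, map_mul, map_inv₀]
      have h6 : (θ ^ (m + 1)) c = θ ((θ ^ m) c) := by rw [pow_succ']; rfl
      rw [h6, map_mul, ringAut_comm σ θ, mul_inv]
      conv_lhs => rw [g4, h5]
      ring

theorem sep_abs {p : ℕ} [Fact p.Prime] (hp : 5 ≤ p) {σ : F ≃+* F} {h : E → E → F} (H : Herm σ h)
    (hσ1 : ∃ a, σ a ≠ a) (h3 : 3 ≤ Module.finrank F E) (hreg : RegU p F E)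
    {Γ : Subgroup (Equiv.Perm E)} (hΓ : IsPGroup p Γ)
    (hY : ∀ y ∈ Γ, ∃ θ τ, SemiH h y θ τ)
    (hscal : ∀ a : Fˣ, (∃ k : ℕ, a ^ p ^ k = 1) → scal F E a ∈ Γ) :
    ∃ (v : E) (hv : h v v = 0) (c : F), c + σ c = 0 ∧
      ∀ y ∈ Γ, (∃ a : Fˣ, scal F E a *
        (io F E (H.tv v hv c) * y * (io F E (H.tv v hv c))⁻¹) ∈ Γ) → ∃ b : Fˣ, y = scal F E b := by
  have hpp : p.Prime := Fact.out
  have hfd : FiniteDimensional F E := inferInstance
  have hcyc : IsCyclic (F ≃+* F) := isCyclic_ringAut F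
  have hfin : Finite (F ≃+* F) := by
    exact Finite.of_injective (fun f : F ≃+* F => (f : F → F)) DFunLike.coe_injective
  obtain ⟨v, hv0, hv, hvr, hav⟩ := hreg σ H.inv hσ1 h H.add H.smul H.sym H.nd (RR Γ h)
    (RR_pgroup hΓ h) (fun r hr => hr.2) (fun a ha hk => ⟨hscal a hk, fun x y => by
      change h ((a : F) • x) ((a : F) • y) = _
      rw [H.smul, H.smul_right, ← mul_assoc, ha, one_mul]⟩)
  refine ⟨v, hv, ?_⟩
  by_contra hcon
  push Not at hcon
  -- Claim A
  have hA : ∀ c : F, c ≠ 0 → c + σ c = 0 →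
      ∃ y ∈ Γ, ∃ θ τ l, Fx σ h v c y θ τ l ∧ orderOf θ = p := by
    intro c hc0 hc
    obtain ⟨y, hyΓ, ⟨a, ha⟩, hyb⟩ := hcon c hc
    obtain ⟨θ, τ, hy⟩ := hY y hyΓ
    obtain ⟨l, hl0, hyv, hcl⟩ := step H h3 hΓ hscal hv0 hv hav hc0 hc hyΓ
      (fun x => ringAut_comm σ θ x) hy ha
    obtain ⟨k, hk⟩ := hΓ ⟨y, hyΓ⟩
    have hk' : y ^ p ^ k = 1 := congrArg Subtype.val hk
    have hθ1 : θ ≠ 1 := by
      rintro rfl
      have h1 : l * σ l = τ := by
        have h2 : c * (τ⁻¹ * (l * σ l)) = c * 1 := by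
          rw [mul_one]
          conv_rhs => rw [hcl]
          change _ = c * τ⁻¹ * l * σ l
          ring
        have h3 := mul_left_cancel₀ hc0 h2
        have h4 := hy.1
        field_simp at h3
        exact h3
      have h2 := lin_data H hv0 hy hyv hk'
      let L : Fˣ := Units.mk0 l hl0
      have hL : ∃ k : ℕ, L⁻¹ ^ p ^ k = 1 := by
        refine ⟨k, ?_⟩
        rw [inv_pow, inv_eq_one]
        apply Units.ext
        rw [Units.val_pow_eq_pow_val, Units.val_one]
        exact h2.1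
      have h3 : scal F E L⁻¹ * y ∈ Γ := Γ.mul_mem (hscal _ hL) hyΓ
      have h4 : Semi F (scal F E L⁻¹ * y) (1 : F ≃+* F) := by
        refine ⟨fun u w => ?_, fun b w => ?_⟩
        · rw [Equiv.Perm.mul_apply, Equiv.Perm.mul_apply, Equiv.Perm.mul_apply, hy.2.1.1,
            scal_apply, scal_apply, scal_apply, smul_add]
        · rw [Equiv.Perm.mul_apply, Equiv.Perm.mul_apply, hy.2.1.2, scal_apply, scal_apply,
            smul_comm]
      obtain ⟨r, hr⟩ := exists_linear h4
      have hrx : ∀ x, r x = (L⁻¹ : Fˣ) • y x := fun x => by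
        rw [← io_apply, hr]; rfl
      have h5 : r ∈ RR Γ h := by
        refine ⟨hr ▸ h3, fun x x' => ?_⟩
        rw [hrx, hrx]
        change h (((L⁻¹ : Fˣ) : F) • y x) (((L⁻¹ : Fˣ) : F) • y x') = _
        rw [H.smul, H.smul_right, hy.2.2]
        change _ * (_ * (τ * h x x')) = _
        rw [← h1]
        change ((L⁻¹ : Fˣ) : F) * (σ ((L⁻¹ : Fˣ) : F) * ((L : F) * σ (L : F) * h x x')) = _
        have h6 : σ ((L⁻¹ : Fˣ) : F) * σ (L : F) = 1 := by
          rw [← map_mul, Units.inv_mul, map_one]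
        have h7 : ((L⁻¹ : Fˣ) : F) * (L : F) = 1 := Units.inv_mul L
        linear_combination (h x x') * (h7 * (σ ((L⁻¹ : Fˣ) : F) * σ (L : F)) + h6)
      have h6 : r v = v := by
        rw [hrx, hyv]
        change ((L⁻¹ : Fˣ) : F) • (L : F) • v = v
        rw [smul_smul, Units.inv_mul, one_smul]
      have h7 := hvr r h5 h6
      refine hyb L ?_
      rw [h7, map_one] at hr
      rw [eq_comm, mul_eq_one_iff_inv_eq, ← map_inv, inv_inv] at hr
      exact hr.symm
    have hθk : θ ^ p ^ k = 1 := by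
      have hpw : ∀ m : ℕ, Semi F (y ^ m) (θ ^ m) := by
        intro m
        induction m with
        | zero => exact semi_one
        | succ m ih => rw [pow_succ', pow_succ']; exact semi_mul hy.2.1 ih
      have h1 := hpw (p ^ k)
      rw [hk'] at h1
      exact semi_unique h1 semi_one hv0
    have hdvd : orderOf θ ∣ p ^ k := orderOf_dvd_of_pow_eq_one hθk
    obtain ⟨j, -, hj⟩ := (Nat.dvd_prime_pow hpp).1 hdvd
    have hpj : p ∣ orderOf θ := by
      rw [hj]
      apply dvd_pow_self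
      rintro rfl
      rw [pow_zero, orderOf_eq_one_iff] at hj
      exact hθ1 hj
    obtain ⟨τ', l', hfx⟩ := fx_pow (σ := σ) (h := h) (v := v) (c := c) (y := y) (θ := θ) (τ := τ)
      (l := l) ⟨hy, hl0, hyv, hcl⟩ (orderOf θ / p)
    exact ⟨_, Γ.pow_mem hyΓ _, _, τ', l', hfx,
      orderOf_pow_orderOf_div (by rw [hj]; exact pow_ne_zero _ hpp.ne_zero) hpj⟩
  obtain ⟨c₀, hc₀, hc₀'⟩ : ∃ c : F, c ≠ 0 ∧ c + σ c = 0 := by
    obtain ⟨a, ha⟩ := hσ1
    refine ⟨a - σ a, sub_ne_zero.2 (Ne.symm ha), ?_⟩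
    rw [map_sub, H.inv]; ring
  obtain ⟨y₀, hy₀Γ, θ₀, τ₀, l₀, ⟨hy₀, hl₀, hyv₀, hcl₀⟩, hord₀⟩ := hA c₀ hc₀ hc₀'
  obtain ⟨u, hu0, huσ, hu⟩ := field_kill_fix (by omega : 3 ≤ p) σ H.inv θ₀ hord₀
  obtain ⟨y₁, hy₁Γ, θ₁, τ₁, l₁, hfx₁, hord₁⟩ := hA (u * c₀) (mul_ne_zero hu0 hc₀) (by
    rw [map_mul, huσ, ← mul_add, hc₀', mul_zero])
  obtain ⟨m, hm⟩ : ∃ m : ℕ, θ₁ ^ m = θ₀ := by
    have h1 := mem_zpowers_of_order (hord₀.trans hord₁.symm)
    rw [← mem_powers_iff_mem_zpowers] at h1
    exact h1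
  obtain ⟨τ', l', ⟨hy', hl', hyv', hcl'⟩⟩ := fx_pow hfx₁ m
  rw [hm] at hy' hcl'
  have hy'Γ : y₁ ^ m ∈ Γ := Γ.pow_mem hy₁Γ m
  obtain ⟨y', hy'e⟩ : ∃ y', y' = y₁ ^ m := ⟨_, rfl⟩
  rw [← hy'e] at hy' hyv' hy'Γ
  have h1 := semiH_mul hy' (semiH_inv hy₀)
  rw [mul_inv_cancel] at h1
  have h2 : τ' * θ₀ ((θ₀.symm τ₀)⁻¹) = τ' * τ₀⁻¹ := by
    rw [map_inv₀, θ₀.apply_symm_apply]
  rw [h2] at h1
  have h4 : (y' * y₀⁻¹) v = (l' * l₀⁻¹) • v := by
    have h5 : y₀⁻¹ v = (θ₀.symm l₀)⁻¹ • v := by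
      apply y₀.injective
      have h6 : y₀ (y₀⁻¹ v) = v := by simp
      rw [h6, hy₀.2.1.2, hyv₀, map_inv₀, θ₀.apply_symm_apply, smul_smul, inv_mul_cancel₀ hl₀,
        one_smul]
    rw [Equiv.Perm.mul_apply, h5, hy'.2.1.2, hyv', map_inv₀, θ₀.apply_symm_apply, smul_smul,
      mul_comm]
  obtain ⟨k, hk⟩ := hΓ ⟨_, Γ.mul_mem hy'Γ (Γ.inv_mem hy₀Γ)⟩
  have hk' : (y' * y₀⁻¹) ^ p ^ k = 1 := congrArg Subtype.val hk
  obtain ⟨g1, g2⟩ := lin_data H hv0 h1 h4 hk'
  apply hu k
  have hθc : θ₀ c₀ ≠ 0 := by rw [Ne, map_eq_zero_iff θ₀ θ₀.injective]; exact hc₀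
  have hθu : θ₀ u ≠ 0 := by rw [Ne, map_eq_zero_iff θ₀ θ₀.injective]; exact hu0
  have hσl₀ : σ l₀ ≠ 0 := by rw [Ne, map_eq_zero_iff σ σ.injective]; exact hl₀
  have hτ₀ := hy₀.1
  have hτ' := hy'.1
  have e1 : u / θ₀ u = (τ' * τ₀⁻¹)⁻¹ * (l' * l₀⁻¹) * σ (l' * l₀⁻¹) := by
    rw [map_mul] at hcl'
    have e2 : u * (θ₀ c₀ * τ₀⁻¹ * l₀ * σ l₀) = θ₀ u * θ₀ c₀ * τ'⁻¹ * l' * σ l' := by
      rw [← hcl₀]; exact hcl'
    rw [map_mul, map_inv₀]
    field_simp
    field_simp at e2
    have e3 : u * l₀ * σ l₀ * τ' = θ₀ u * l' * σ l' * τ₀ := by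
      linear_combination e2
    linear_combination e3
  rw [e1, mul_pow, mul_pow, inv_pow, g2, g1, ← map_pow, g1, map_one]
  norm_num

end final

/-! ### the standard hermitian form -/

section std

variable {F : Type} [Field F] [Fintype F] {q : ℕ}

theorem exists_sigma (hF : Fintype.card F = q ^ 2) :
    ∃ σ : F ≃+* F, (∀ x, σ x = x ^ q) ∧ (∀ x, σ (σ x) = x) ∧ ∃ a, σ a ≠ a := by
  obtain ⟨r, hr⟩ := CharP.exists F
  have hrp : r.Prime := CharP.char_is_prime F r
  have : Fact r.Prime := ⟨hrp⟩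
  obtain ⟨f, -, hf⟩ := FiniteField.card F r
  rw [hF] at hf
  obtain ⟨j, -, hj⟩ := (Nat.dvd_prime_pow hrp).1 (hf ▸ dvd_pow_self q two_ne_zero)
  have h1 : ∀ x : F, iterateFrobeniusEquiv F r j x = x ^ q := fun x => by
    rw [iterateFrobeniusEquiv_def, hj]
  refine ⟨iterateFrobeniusEquiv F r j, h1, fun x => ?_, ?_⟩
  · rw [h1, h1, ← pow_mul, ← sq, ← hF, FiniteField.pow_card]
  · obtain ⟨g, hg⟩ := IsCyclic.exists_generator (α := Fˣ)
    have hq2 : 2 ≤ q := by
      by_contra hcon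
      have : q = 0 ∨ q = 1 := by omega
      have h2 : 1 < Fintype.card F := Fintype.one_lt_card
      rcases this with rfl | rfl
      · rw [hF] at h2; omega
      · rw [hF] at h2; omega
    refine ⟨g, fun h2 => ?_⟩
    rw [h1] at h2
    have h3 : g ^ (q - 1) = 1 := by
      have h4 : g * g ^ (q - 1) = g * 1 := by
        rw [← pow_succ', Nat.sub_add_cancel (by omega), mul_one]
        apply Units.ext
        rw [Units.val_pow_eq_pow_val]; exact h2
      exact mul_left_cancel h4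
    have h5 : orderOf g = q ^ 2 - 1 := by
      rw [orderOf_eq_card_of_forall_mem_zpowers hg, Nat.card_units, Nat.card_eq_fintype_card, hF]
    have h6 := Nat.le_of_dvd (by omega) (orderOf_dvd_of_pow_eq_one h3)
    rw [h5, sq] at h6
    have h7 : 2 * q ≤ q * q := Nat.mul_le_mul_right _ hq2
    omega

omit [Fintype F] in
theorem herm_std {n : ℕ} {σ : F ≃+* F} (hσ : ∀ x, σ x = x ^ q)
    (hσ2 : ∀ x, σ (σ x) = x) (hq : q ≠ 0) : Herm σ (Cfsg.hermForm n F q) where
  inv := hσ2
  add x y z := by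
    simp only [Cfsg.hermForm, Pi.add_apply, add_mul, Finset.sum_add_distrib]
  smul a x y := by
    simp only [Cfsg.hermForm, Pi.smul_apply, smul_eq_mul, Finset.mul_sum, mul_assoc]
  sym x y := by
    simp only [Cfsg.hermForm, map_sum, map_mul]
    refine Finset.sum_congr rfl fun i _ => ?_
    rw [hσ (x i), ← hσ (y i), hσ2, mul_comm]
  nd x hx := by
    ext i
    have h1 := hx (Pi.single i 1)
    rw [Cfsg.hermForm, Finset.sum_eq_single i] at h1
    · simpa using h1
    · intro j _ hj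
      rw [Pi.single_eq_of_ne hj, zero_pow hq, mul_zero]
    · intro h; exact absurd (Finset.mem_univ i) h

/-- **Task 611 (S5762).** The unitary row in cross characteristic. -/
theorem sepSU_cross {p n q : ℕ} [Fact p.Prime] (hp : 5 ≤ p) {F : Type} [Field F] [Fintype F]
    (hF : Fintype.card F = q ^ 2) (_hpF : (p : F) ≠ 0) (hn : 3 ≤ n)
    (hreg : Cfsg.Agent.H903.SylReg.RegU p F (Fin n → F)) :
    Cfsg.Agent.H903.SylSemi.SepSU p F n q := by
  intro Γ hΓ hY hscal
  obtain ⟨σ, hσ, hσ2, hσ1⟩ := exists_sigma hF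
  have hq : q ≠ 0 := by
    rintro rfl
    have := Fintype.card_pos (α := F)
    rw [hF] at this
    simp at this
  have H : Herm σ (Cfsg.hermForm n F q) := herm_std hσ hσ2 hq
  obtain ⟨v, hv, c, hc, hy⟩ := sep_abs hp H hσ1 (by simpa using hn) hreg hΓ hY hscal
  refine ⟨io F _ (H.tv v hv c), ⟨⟨(H.tv v hv c : (Fin n → F) →ₗ[F] (Fin n → F)), fun x => rfl,
    H.tv_det v hv c⟩, fun x y => H.tv_isom v hv hc x y⟩, hy⟩

end std

end Cfsg.Agent.H479.SepSU
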