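/-
helper479: task 1593 (S2484, `p = 3`), the unitary row in cross characteristic for all odd primes, and `PSU₃(q)`
with `3 ∤ q (q + 1)`.
-/
import Mathlib
import Cfsg.Prelude.Def_ClassicalGeometry
import Cfsg.Agent.H479.SepSU
import Cfsg.Agent.H868.MeetOddPSU
import Cfsg.Agent.H903.SylRegTU

set_option autoImplicit false

namespace Cfsg.Agent.H479.SepSU3

open Cfsg.Agent.H903.SylSemi Cfsg.Agent.H903.SylReg Cfsg.Agent.H479.SepSU

/-- `RegU` for a fixed hermitian form. -/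
def RegUh (p : ℕ) (F : Type*) [Field F] (E : Type*) [AddCommGroup E] [Module F E] (σ : F ≃+* F)
    (h : E → E → F) : Prop :=
  ∀ R : Subgroup (E ≃ₗ[F] E), IsPGroup p R → (∀ r ∈ R, ∀ x y, h (r x) (r y) = h x y) →
    (∀ a : Fˣ, (a : F) * σ a = 1 → (∃ k : ℕ, a ^ p ^ k = 1) → LinearEquiv.smulOfUnit a ∈ R) →
  ∃ v : E, v ≠ 0 ∧ h v v = 0 ∧ (∀ r ∈ R, r v = v → r = 1) ∧ Avoid R v

section final

variable {F : Type*} [Field F] [Finite F] {E : Type*} [AddCommGroup E] [Module F E] [Finite E]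

theorem sep_abs3 {p : ℕ} [Fact p.Prime] (hp : 3 ≤ p) {σ : F ≃+* F} {h : E → E → F} (H : Herm σ h)
    (hσ1 : ∃ a, σ a ≠ a) (h3 : 3 ≤ Module.finrank F E) (hreg : RegUh p F E σ h)
    {Γ : Subgroup (Equiv.Perm E)} (hΓ : IsPGroup p Γ)
    (hY : ∀ y ∈ Γ, ∃ θ τ, SemiH h y θ τ)
    (hscal : ∀ a : Fˣ, (∃ k : ℕ, a ^ p ^ k = 1) → scal F E a ∈ Γ) :
    ∃ (v : E) (hv : h v v = 0) (c : F), c + σ c = 0 ∧
      ∀ y ∈ Γ, (∃ a : Fˣ, scal F E a *
        (io F E (H.tv v hv c) * y * (io F E (H.tv v hv c))⁻¹) ∈ Γ) → ∃ b : Fˣ, y = scal F E b := by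
  have hpp : p.Prime := Fact.out
  have hfd : FiniteDimensional F E := inferInstance
  have hcyc : IsCyclic (F ≃+* F) := isCyclic_ringAut F
  have hfin : Finite (F ≃+* F) := by
    exact Finite.of_injective (fun f : F ≃+* F => (f : F → F)) DFunLike.coe_injective
  obtain ⟨v, hv0, hv, hvr, hav⟩ := hreg (RR Γ h)
    (RR_pgroup hΓ h) (fun r hr => hr.2) (fun a ha hk => ⟨hscal a hk, fun x y => by
      change h ((a : F) • x) ((a : F) • y) = _
      rw [H.smul, H.smul_right, ← mul_assoc, ha, one_mul]⟩)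
  refine ⟨v, hv, ?_⟩
  by_contra hcon
  push Not at hcon
  -- Claim A
  have hA : ∀ c : F, c ≠ 0 → c + σ c = 0 →
      ∃ y ∈ Γ, ∃ θ τ l, Fx σ h v c y θ τ l ∧ orderOf θ = p := by
    intro c hc0 hc
    obtain ⟨y, hyΓ, ⟨a, ha⟩, hyb⟩ := hcon c hc
    obtain ⟨θ, τ, hy⟩ := hY y hyΓ
    obtain ⟨l, hl0, hyv, hcl⟩ := step H h3 hΓ hscal hv0 hv hav hc0 hc hyΓ
      (fun x => ringAut_comm σ θ x) hy ha
    obtain ⟨k, hk⟩ := hΓ ⟨y, hyΓ⟩
    have hk' : y ^ p ^ k = 1 := congrArg Subtype.val hk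
    have hθ1 : θ ≠ 1 := by
      rintro rfl
      have h1 : l * σ l = τ := by
        have h2 : c * (τ⁻¹ * (l * σ l)) = c * 1 := by
          rw [mul_one]
          conv_rhs => rw [hcl]
          change _ = c * τ⁻¹ * l * σ l
          ring
        have h3 := mul_left_cancel₀ hc0 h2
        have h4 := hy.1
        field_simp at h3
        exact h3
      have h2 := lin_data H hv0 hy hyv hk'
      let L : Fˣ := Units.mk0 l hl0
      have hL : ∃ k : ℕ, L⁻¹ ^ p ^ k = 1 := by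
        refine ⟨k, ?_⟩
        rw [inv_pow, inv_eq_one]
        apply Units.ext
        rw [Units.val_pow_eq_pow_val, Units.val_one]
        exact h2.1
      have h3 : scal F E L⁻¹ * y ∈ Γ := Γ.mul_mem (hscal _ hL) hyΓ
      have h4 : Semi F (scal F E L⁻¹ * y) (1 : F ≃+* F) := by
        refine ⟨fun u w => ?_, fun b w => ?_⟩
        · rw [Equiv.Perm.mul_apply, Equiv.Perm.mul_apply, Equiv.Perm.mul_apply, hy.2.1.1,
            scal_apply, scal_apply, scal_apply, smul_add]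
        · rw [Equiv.Perm.mul_apply, Equiv.Perm.mul_apply, hy.2.1.2, scal_apply, scal_apply,
            smul_comm]
      obtain ⟨r, hr⟩ := exists_linear h4
      have hrx : ∀ x, r x = (L⁻¹ : Fˣ) • y x := fun x => by
        rw [← io_apply, hr]; rfl
      have h5 : r ∈ RR Γ h := by
        refine ⟨hr ▸ h3, fun x x' => ?_⟩
        rw [hrx, hrx]
        change h (((L⁻¹ : Fˣ) : F) • y x) (((L⁻¹ : Fˣ) : F) • y x') = _
        rw [H.smul, H.smul_right, hy.2.2]
        change _ * (_ * (τ * h x x')) = _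
        rw [← h1]
        change ((L⁻¹ : Fˣ) : F) * (σ ((L⁻¹ : Fˣ) : F) * ((L : F) * σ (L : F) * h x x')) = _
        have h6 : σ ((L⁻¹ : Fˣ) : F) * σ (L : F) = 1 := by
          rw [← map_mul, Units.inv_mul, map_one]
        have h7 : ((L⁻¹ : Fˣ) : F) * (L : F) = 1 := Units.inv_mul L
        linear_combination (h x x') * (h7 * (σ ((L⁻¹ : Fˣ) : F) * σ (L : F)) + h6)
      have h6 : r v = v := by
        rw [hrx, hyv]
        change ((L⁻¹ : Fˣ) : F) • (L : F) • v = v
        rw [smul_smul, Units.inv_mul, one_smul]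
      have h7 := hvr r h5 h6
      refine hyb L ?_
      rw [h7, map_one] at hr
      rw [eq_comm, mul_eq_one_iff_inv_eq, ← map_inv, inv_inv] at hr
      exact hr.symm
    have hθk : θ ^ p ^ k = 1 := by
      have hpw : ∀ m : ℕ, Semi F (y ^ m) (θ ^ m) := by
        intro m
        induction m with
        | zero => exact semi_one
        | succ m ih => rw [pow_succ', pow_succ']; exact semi_mul hy.2.1 ih
      have h1 := hpw (p ^ k)
      rw [hk'] at h1
      exact semi_unique h1 semi_one hv0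
    have hdvd : orderOf θ ∣ p ^ k := orderOf_dvd_of_pow_eq_one hθk
    obtain ⟨j, -, hj⟩ := (Nat.dvd_prime_pow hpp).1 hdvd
    have hpj : p ∣ orderOf θ := by
      rw [hj]
      apply dvd_pow_self
      rintro rfl
      rw [pow_zero, orderOf_eq_one_iff] at hj
      exact hθ1 hj
    obtain ⟨τ', l', hfx⟩ := fx_pow (σ := σ) (h := h) (v := v) (c := c) (y := y) (θ := θ) (τ := τ)
      (l := l) ⟨hy, hl0, hyv, hcl⟩ (orderOf θ / p)
    exact ⟨_, Γ.pow_mem hyΓ _, _, τ', l', hfx,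
      orderOf_pow_orderOf_div (by rw [hj]; exact pow_ne_zero _ hpp.ne_zero) hpj⟩
  obtain ⟨c₀, hc₀, hc₀'⟩ : ∃ c : F, c ≠ 0 ∧ c + σ c = 0 := by
    obtain ⟨a, ha⟩ := hσ1
    refine ⟨a - σ a, sub_ne_zero.2 (Ne.symm ha), ?_⟩
    rw [map_sub, H.inv]; ring
  obtain ⟨y₀, hy₀Γ, θ₀, τ₀, l₀, ⟨hy₀, hl₀, hyv₀, hcl₀⟩, hord₀⟩ := hA c₀ hc₀ hc₀'
  obtain ⟨u, hu0, huσ, hu⟩ := field_kill_fix hp σ H.inv θ₀ hord₀
  obtain ⟨y₁, hy₁Γ, θ₁, τ₁, l₁, hfx₁, hord₁⟩ := hA (u * c₀) (mul_ne_zero hu0 hc₀) (by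
    rw [map_mul, huσ, ← mul_add, hc₀', mul_zero])
  obtain ⟨m, hm⟩ : ∃ m : ℕ, θ₁ ^ m = θ₀ := by
    have h1 := mem_zpowers_of_order (hord₀.trans hord₁.symm)
    rw [← mem_powers_iff_mem_zpowers] at h1
    exact h1
  obtain ⟨τ', l', ⟨hy', hl', hyv', hcl'⟩⟩ := fx_pow hfx₁ m
  rw [hm] at hy' hcl'
  have hy'Γ : y₁ ^ m ∈ Γ := Γ.pow_mem hy₁Γ m
  obtain ⟨y', hy'e⟩ : ∃ y', y' = y₁ ^ m := ⟨_, rfl⟩
  rw [← hy'e] at hy' hyv' hy'Γ
  have h1 := semiH_mul hy' (semiH_inv hy₀)
  rw [mul_inv_cancel] at h1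
  have h2 : τ' * θ₀ ((θ₀.symm τ₀)⁻¹) = τ' * τ₀⁻¹ := by
    rw [map_inv₀, θ₀.apply_symm_apply]
  rw [h2] at h1
  have h4 : (y' * y₀⁻¹) v = (l' * l₀⁻¹) • v := by
    have h5 : y₀⁻¹ v = (θ₀.symm l₀)⁻¹ • v := by
      apply y₀.injective
      have h6 : y₀ (y₀⁻¹ v) = v := by simp
      rw [h6, hy₀.2.1.2, hyv₀, map_inv₀, θ₀.apply_symm_apply, smul_smul, inv_mul_cancel₀ hl₀,
        one_smul]
    rw [Equiv.Perm.mul_apply, h5, hy'.2.1.2, hyv', map_inv₀, θ₀.apply_symm_apply, smul_smul,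
      mul_comm]
  obtain ⟨k, hk⟩ := hΓ ⟨_, Γ.mul_mem hy'Γ (Γ.inv_mem hy₀Γ)⟩
  have hk' : (y' * y₀⁻¹) ^ p ^ k = 1 := congrArg Subtype.val hk
  obtain ⟨g1, g2⟩ := lin_data H hv0 h1 h4 hk'
  apply hu k
  have hθc : θ₀ c₀ ≠ 0 := by rw [Ne, map_eq_zero_iff θ₀ θ₀.injective]; exact hc₀
  have hθu : θ₀ u ≠ 0 := by rw [Ne, map_eq_zero_iff θ₀ θ₀.injective]; exact hu0
  have hσl₀ : σ l₀ ≠ 0 := by rw [Ne, map_eq_zero_iff σ σ.injective]; exact hl₀
  have hτ₀ := hy₀.1
  have hτ' := hy'.1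
  have e1 : u / θ₀ u = (τ' * τ₀⁻¹)⁻¹ * (l' * l₀⁻¹) * σ (l' * l₀⁻¹) := by
    rw [map_mul] at hcl'
    have e2 : u * (θ₀ c₀ * τ₀⁻¹ * l₀ * σ l₀) = θ₀ u * θ₀ c₀ * τ'⁻¹ * l' * σ l' := by
      rw [← hcl₀]; exact hcl'
    rw [map_mul, map_inv₀]
    field_simp
    field_simp at e2
    have e3 : u * l₀ * σ l₀ * τ' = θ₀ u * l' * σ l' * τ₀ := by
      linear_combination e2
    linear_combination e3
  rw [e1, mul_pow, mul_pow, inv_pow, g2, g1, ← map_pow, g1, map_one]
  norm_num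


end final

/-! ### the standard hermitian form -/

section std

variable {F : Type} [Field F] [Fintype F] {q : ℕ}

/-- The unitary row in cross characteristic for all odd primes, given the regular vectors. -/
theorem sepSU_of_reg {p n q : ℕ} [Fact p.Prime] (hp : 3 ≤ p) {F : Type} [Field F] [Fintype F]
    (hF : Fintype.card F = q ^ 2) (hn : 3 ≤ n)
    (hreg : ∀ σ : F ≃+* F, (∀ x, σ x = x ^ q) → (∀ x, σ (σ x) = x) → (∃ a, σ a ≠ a) →
      RegUh p F (Fin n → F) σ (Cfsg.hermForm n F q)) :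
    Cfsg.Agent.H903.SylSemi.SepSU p F n q := by
  intro Γ hΓ hY hscal
  obtain ⟨σ, hσ, hσ2, hσ1⟩ := exists_sigma hF
  have hq : q ≠ 0 := by
    rintro rfl
    have := Fintype.card_pos (α := F)
    rw [hF] at this
    simp at this
  have H : Herm σ (Cfsg.hermForm n F q) := herm_std hσ hσ2 hq
  obtain ⟨v, hv, c, hc, hy⟩ := sep_abs3 hp H hσ1 (by simpa using hn) (hreg σ hσ hσ2 hσ1) hΓ hY hscal
  refine ⟨io F _ (H.tv v hv c), ⟨⟨(H.tv v hv c : (Fin n → F) →ₗ[F] (Fin n → F)), fun x => rfl,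
    H.tv_det v hv c⟩, fun x y => H.tv_isom v hv hc x y⟩, hy⟩

/-- **Task 1593 (S2484).** The unitary row at `p = 3` in cross characteristic, `n ≥ 4`, `q ≥ 4`. -/
theorem meet3_PSU_cross {n q : ℕ} {F : Type} [Field F] [Fintype F] (hF : Fintype.card F = q ^ 2)
    (hq : 4 ≤ q) (h3 : (3 : F) ≠ 0) (hn : 4 ≤ n) :
    Cfsg.Agent.H903.SylMeet.Meet 3 (Cfsg.PSU n F q) := by
  have : Fact (Nat.Prime 3) := ⟨by norm_num⟩
  refine Cfsg.Agent.H868.MeetOddPSU.meet_PSU le_rfl hF (by omega) (by omega) ?_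
  refine sepSU_of_reg le_rfl hF (by omega) fun σ hσ hσ2 hσ1 => ?_
  have H : Herm σ (Cfsg.hermForm n F q) := herm_std hσ hσ2 (by omega)
  have hreg := Cfsg.Agent.H903.SylRegT.regU' 3 le_rfl F (Fin n → F) (by exact_mod_cast h3)
    (by simpa using hn) (q := q) (by rw [Nat.card_eq_fintype_card, hF]) hq
  exact hreg σ hσ2 hσ1 _ H.add H.smul H.sym H.nd

end std

/-! ### dimension three, `3 ∤ q + 1` -/

section three

variable {F : Type*} [Field F] {E : Type*} [AddCommGroup E] [Module F E] {σ : F ≃+* F} {h : E → E → F}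

theorem eig_sum (z : E ≃ₗ[F] E) (hz : ∀ x, z (z (z x)) = x) {l : F} (hl : l ^ 2 + l + 1 = 0) (x : E) :
    ∃ x0 x1 x2 : E, x0 + x1 + x2 = (3 : F) • x ∧ z x0 = x0 ∧ z x1 = l • x1 ∧ z x2 = l ^ 2 • x2 := by
  have hl3 : l ^ 3 = 1 := by linear_combination (l - 1) * hl
  refine ⟨x + z x + z (z x), x + l ^ 2 • z x + l • z (z x), x + l • z x + l ^ 2 • z (z x), ?_, ?_, ?_, ?_⟩
  · linear_combination (norm := module) hl • z x + hl • z (z x)
  · rw [map_add, map_add, hz]; abel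
  · rw [map_add, map_add, map_smul, map_smul, hz]
    linear_combination (norm := module) (-hl3) • z x
  · rw [map_add, map_add, map_smul, map_smul, hz]
    linear_combination (norm := module) (-hl3) • z x + (-l * hl3) • z (z x)

theorem orth (H : Herm σ h) {z : E ≃ₗ[F] E} (hzh : ∀ x y, h (z x) (z y) = h x y) {a b : F} (hb : σ b = b)
    (hab : a * b ≠ 1) {x y : E} (hx : z x = a • x) (hy : z y = b • y) : h x y = 0 := by
  have h1 := hzh x y
  rw [hx, hy, H.smul, H.smul_right, hb] at h1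
  have h2 : (a * b - 1) * h x y = 0 := by linear_combination h1
  exact (mul_eq_zero.1 h2).resolve_left (sub_ne_zero.2 hab)

theorem exists_trace (H : Herm σ h) (hσ1 : ∃ a, σ a ≠ a) {d : F} (hd : σ d = d) :
    ∃ t : F, t + σ t = - d := by
  obtain ⟨b, hb⟩ : ∃ b, b + σ b ≠ 0 := by
    by_contra hcon
    push Not at hcon
    obtain ⟨a, ha⟩ := hσ1
    apply ha
    have h1 := hcon 1
    have h2 := hcon a
    rw [map_one] at h1
    linear_combination h2 - a * h1
  refine ⟨-d * b / (b + σ b), ?_⟩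
  rw [map_div₀, map_mul, map_neg, map_add, hd, H.inv, add_comm (σ b) b, ← add_div, ← mul_add,
    mul_div_assoc, div_self hb, mul_one]

theorem reg_three [Finite F] [Finite E] (H : Herm σ h) (hσ1 : ∃ a, σ a ≠ a)
    (hE : Module.finrank F E = 3) (h3 : (3 : F) ≠ 0) {ω : F} (hω : ω ^ 2 + ω + 1 = 0) (hσω : σ ω = ω)
    (hno : ∀ a : F, a * σ a = 1 → (∃ k, a ^ 3 ^ k = 1) → a = 1) : RegUh 3 F E σ h := by
  intro R hR hRh _
  have hp3 : Fact (Nat.Prime 3) := ⟨by norm_num⟩
  have hfd : FiniteDimensional F E := inferInstance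
  by_cases hR1 : R = ⊥
  · have U : HF σ h := ⟨H.inv, hσ1, H.add, H.smul, H.sym⟩
    obtain ⟨v, -, hv, hvv⟩ := U.exists_iso (W := ⊤) (by rw [finrank_top]; omega)
      (fun x _ hx => H.nd x fun y => hx y trivial)
    have h1 : ∀ r ∈ R, r = 1 := fun r hr => by rw [hR1] at hr; exact Subgroup.mem_bot.1 hr
    exact ⟨v, hv, hvv, fun r hr _ => h1 r hr, fun z hz hz1 => absurd (h1 z hz) hz1⟩
  -- a central element of order 3
  obtain ⟨z, hzR, hzc, hz1, hz3⟩ : ∃ z ∈ R, (∀ r ∈ R, r * z = z * r) ∧ z ≠ 1 ∧ z ^ 3 = 1 := by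
    have hnt : Nontrivial R := (Subgroup.nontrivial_iff_ne_bot R).2 hR1
    have hfin : Finite (E ≃ₗ[F] E) := Finite.of_injective (fun f => (f : E → E)) DFunLike.coe_injective
    have h1 := hR.center_nontrivial
    have h2 : 3 ∣ Nat.card (Subgroup.center R) := by
      obtain ⟨n, hn⟩ := (hR.to_subgroup (Subgroup.center R)).exists_card_eq
      have h4 := Finite.one_lt_card_iff_nontrivial.2 h1
      rw [hn] at h4 ⊢
      exact dvd_pow_self _ (by rintro rfl; simp at h4)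
    obtain ⟨c, hc⟩ := exists_prime_orderOf_dvd_card' 3 h2
    refine ⟨((c : R) : E ≃ₗ[F] E), (c : R).2, ?_, ?_, ?_⟩
    · intro r hr
      exact congrArg Subtype.val (Subgroup.mem_center_iff.1 c.2 ⟨r, hr⟩)
    · intro h5
      have h6 : c = 1 := Subtype.ext (Subtype.ext h5)
      rw [h6, orderOf_one] at hc
      omega
    · have h5 := pow_orderOf_eq_one c
      rw [hc] at h5
      exact congrArg (fun x : Subgroup.center R => ((x : R) : E ≃ₗ[F] E)) h5
  have hz : ∀ x, z (z (z x)) = x := fun x => by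
    have := DFunLike.congr_fun hz3 x
    exact this
  have hzh := hRh z hzR
  have hone : ∀ l : F, l ^ 2 + l + 1 = 0 → l ≠ 1 := by
    rintro l hl rfl
    apply h3; linear_combination hl
  -- an eigenvector
  obtain ⟨l, e, hl, hσl, he0, hze⟩ : ∃ (l : F) (e : E), l ^ 2 + l + 1 = 0 ∧ σ l = l ∧ e ≠ 0 ∧
      z e = l • e := by
    obtain ⟨x, hx⟩ : ∃ x, z x ≠ x := by
      by_contra hcon
      push Not at hcon
      exact hz1 (LinearEquiv.ext hcon)
    obtain ⟨x0, x1, x2, hs, hx0, hx1, hx2⟩ := eig_sum z hz hω x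
    by_cases h1 : x1 = 0
    · by_cases h2 : x2 = 0
      · exfalso
        apply hx
        rw [h1, h2, add_zero, add_zero] at hs
        rw [hs, map_smul] at hx0
        exact smul_right_injective E h3 hx0
      · exact ⟨ω ^ 2, x2, by linear_combination (ω ^ 2 - ω + 1) * hω, by rw [map_pow, hσω], h2, hx2⟩
    · exact ⟨ω, x1, hω, hσω, h1, hx1⟩
  have hl3 : l ^ 3 = 1 := by linear_combination (l - 1) * hl
  have hl1 := hone l hl
  have hl2 : l * l ≠ 1 := fun h1 => hl1 (by linear_combination hl3 - l * h1)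
  have hl4 : l ^ 2 * l ^ 2 ≠ 1 := fun h1 => hl1 (by linear_combination h1 - l * hl3)
  obtain ⟨f, hzf, hfe⟩ : ∃ f : E, z f = l ^ 2 • f ∧ h f e ≠ 0 := by
    obtain ⟨y, hy⟩ := H.nd' he0
    obtain ⟨y0, y1, y2, hs, hy0, hy1, hy2⟩ := eig_sum z hz hl y
    refine ⟨y2, hy2, fun h1 => ?_⟩
    have h2 : h y0 e = 0 := orth H hzh hσl (a := 1) (b := l) (by rwa [one_mul]) (by rw [hy0, one_smul]) hze
    have h4 : h y1 e = 0 := orth H hzh hσl (a := l) (b := l) hl2 hy1 hze
    have h5 : h (y0 + y1 + y2) e = h ((3 : F) • y) e := by rw [hs]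
    rw [H.add, H.add, H.smul, h1, h2, h4, add_zero, add_zero] at h5
    exact (mul_ne_zero h3 hy) h5.symm
  have hee : h e e = 0 := orth H hzh hσl hl2 hze hze
  have hff : h f f = 0 := orth H hzh (by rw [map_pow, hσl]) hl4 hzf hzf
  have hef : h e f ≠ 0 := by
    rw [H.sym f e, Ne, map_eq_zero_iff σ σ.injective]; exact hfe
  obtain ⟨w, hw0, hwe, hwf⟩ : ∃ w : E, w ≠ 0 ∧ h w e = 0 ∧ h w f = 0 := by
    have h1 : LinearMap.ker ((H.fn e).prod (H.fn f)) ≠ ⊥ := by
      apply LinearMap.ker_ne_bot_of_finrank_lt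
      rw [hE, Module.finrank_prod, Module.finrank_self]; norm_num
    obtain ⟨w, hw, hw0⟩ := Submodule.exists_mem_ne_zero_of_ne_bot h1
    rw [LinearMap.mem_ker, LinearMap.prod_apply] at hw
    exact ⟨w, hw0, congrArg Prod.fst hw, congrArg Prod.snd hw⟩
  have hew : h e w = 0 := by rw [H.sym w e, hwe, map_zero]
  have hfw : h f w = 0 := by rw [H.sym w f, hwf, map_zero]
  -- coordinates
  have hli : LinearIndependent F ![e, f, w] := by
    rw [Fintype.linearIndependent_iff]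
    intro g hg
    rw [Fin.sum_univ_three] at hg
    change g 0 • e + g 1 • f + g 2 • w = 0 at hg
    have h0 : g 0 = 0 := by
      have h1 : h (g 0 • e + g 1 • f + g 2 • w) f = h 0 f := by rw [hg]
      rw [H.add, H.add, H.smul, H.smul, H.smul, H.zero_left, hff, hwf, mul_zero, mul_zero, add_zero,
        add_zero] at h1
      exact (mul_eq_zero.1 h1).resolve_right hef
    have h1 : g 1 = 0 := by
      have h1 : h (g 0 • e + g 1 • f + g 2 • w) e = h 0 e := by rw [hg]
      rw [H.add, H.add, H.smul, H.smul, H.smul, H.zero_left, hee, hwe, mul_zero, mul_zero, add_zero,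
        zero_add] at h1
      exact (mul_eq_zero.1 h1).resolve_right hfe
    have h2 : g 2 = 0 := by
      rw [h0, h1, zero_smul, zero_smul, zero_add, zero_add] at hg
      exact (smul_eq_zero.1 hg).resolve_right hw0
    intro i
    fin_cases i <;> assumption
  have hco : ∀ x : E, ∃ a b c : F, x = a • e + b • f + c • w := by
    intro x
    have h1 := hli.span_eq_top_of_card_eq_finrank (by rw [hE]; simp)
    have h2 : x ∈ Submodule.span F (Set.range ![e, f, w]) := by rw [h1]; trivial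
    obtain ⟨g, hg⟩ := (Submodule.mem_span_range_iff_exists_fun F).1 h2
    rw [Fin.sum_univ_three] at hg
    exact ⟨g 0, g 1, g 2, hg.symm⟩
  have hww : h w w ≠ 0 := by
    intro h1
    apply hw0
    refine H.nd w fun y => ?_
    obtain ⟨a, b, c, rfl⟩ := hco y
    rw [H.add_right, H.add_right, H.smul_right, H.smul_right, H.smul_right, hwe, hwf, h1]; ring
  -- the action of `R`
  have hact : ∀ r ∈ R, ∃ α β : F, r e = α • e ∧ r f = β • f ∧ r w = w ∧ α * σ β = 1 := by
    intro r hr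
    have hrh := hRh r hr
    have hcomm : ∀ x, r (z x) = z (r x) := fun x => DFunLike.congr_fun (hzc r hr) x
    -- the image of `e`
    have hre : ∃ α : F, r e = α • e := by
      obtain ⟨a, b, c, hx⟩ := hco (r e)
      have hzr : z (r e) = l • r e := by rw [← hcomm, hze, map_smul]
      have h1 : h (r e) e = 0 := orth H hzh hσl hl2 hzr hze
      rw [hx, H.add, H.add, H.smul, H.smul, H.smul, hee, hwe, mul_zero, mul_zero, add_zero,
        zero_add] at h1
      have hb := (mul_eq_zero.1 h1).resolve_right hfe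
      rw [hb, zero_smul, add_zero] at hx
      have h2 : h (r e) (r e) = 0 := by rw [hrh, hee]
      rw [hx, H.add, H.add_right, H.add_right, H.smul, H.smul, H.smul, H.smul, H.smul_right,
        H.smul_right, H.smul_right, H.smul_right, hee, hew, hwe] at h2
      have h4 : c * σ c * h w w = 0 := by linear_combination h2
      have hc : c = 0 := by
        rcases mul_eq_zero.1 ((mul_eq_zero.1 h4).resolve_right hww) with h5 | h5
        · exact h5
        · exact (map_eq_zero_iff σ σ.injective).1 h5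
      rw [hc, zero_smul, add_zero] at hx
      exact ⟨a, hx⟩
    have hrf : ∃ β : F, r f = β • f := by
      obtain ⟨a, b, c, hx⟩ := hco (r f)
      have hzr : z (r f) = l ^ 2 • r f := by rw [← hcomm, hzf, map_smul]
      have h1 : h (r f) f = 0 := orth H hzh (by rw [map_pow, hσl]) hl4 hzr hzf
      rw [hx, H.add, H.add, H.smul, H.smul, H.smul, hff, hwf, mul_zero, mul_zero, add_zero,
        add_zero] at h1
      have hb := (mul_eq_zero.1 h1).resolve_right hef
      rw [hb, zero_smul, zero_add] at hx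
      have h2 : h (r f) (r f) = 0 := by rw [hrh, hff]
      rw [hx, H.add, H.add_right, H.add_right, H.smul, H.smul, H.smul, H.smul, H.smul_right,
        H.smul_right, H.smul_right, H.smul_right, hff, hfw, hwf] at h2
      have h4 : c * σ c * h w w = 0 := by linear_combination h2
      have hc : c = 0 := by
        rcases mul_eq_zero.1 ((mul_eq_zero.1 h4).resolve_right hww) with h5 | h5
        · exact h5
        · exact (map_eq_zero_iff σ σ.injective).1 h5
      rw [hc, zero_smul, add_zero] at hx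
      exact ⟨b, hx⟩
    obtain ⟨α, hα⟩ := hre
    obtain ⟨β, hβ⟩ := hrf
    have hαβ : α * σ β = 1 := by
      have h1 := hrh e f
      rw [hα, hβ, H.smul, H.smul_right] at h1
      exact mul_right_cancel₀ hef (by linear_combination h1)
    have hα0 : α ≠ 0 := left_ne_zero_of_mul_eq_one hαβ
    have hβ0 : β ≠ 0 := by
      rintro rfl
      rw [map_zero, mul_zero] at hαβ
      exact zero_ne_one hαβ
    refine ⟨α, β, hα, hβ, ?_, hαβ⟩
    obtain ⟨a, b, c, hx⟩ := hco (r w)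
    have h1 : h (r w) e = 0 := by
      have h2 := hrh w e
      rw [hwe, hα, H.smul_right] at h2
      exact (mul_eq_zero.1 h2).resolve_left fun h3 => hα0 ((map_eq_zero_iff σ σ.injective).1 h3)
    have h2 : h (r w) f = 0 := by
      have h2 := hrh w f
      rw [hwf, hβ, H.smul_right] at h2
      exact (mul_eq_zero.1 h2).resolve_left fun h3 => hβ0 ((map_eq_zero_iff σ σ.injective).1 h3)
    rw [hx, H.add, H.add, H.smul, H.smul, H.smul, hee, hwe, mul_zero, mul_zero, add_zero,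
      zero_add] at h1
    rw [hx, H.add, H.add, H.smul, H.smul, H.smul, hff, hwf, mul_zero, mul_zero, add_zero,
      add_zero] at h2
    rw [(mul_eq_zero.1 h1).resolve_right hfe, (mul_eq_zero.1 h2).resolve_right hef, zero_smul,
      zero_smul, zero_add, zero_add] at hx
    have h4 : c * σ c = 1 := by
      have h5 := hrh w w
      rw [hx, H.smul, H.smul_right] at h5
      exact mul_right_cancel₀ hww (by linear_combination h5)
    obtain ⟨k, hk⟩ := hR ⟨r, hr⟩
    have hk' : r ^ 3 ^ k = 1 := congrArg Subtype.val hk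
    have hpw : ∀ m : ℕ, (r ^ m) w = c ^ m • w := by
      intro m
      induction m with
      | zero => simp
      | succ m ih => rw [pow_succ, LinearEquiv.mul_apply, hx, map_smul, ih, smul_smul, pow_succ']
    have h5 := hpw (3 ^ k)
    rw [hk'] at h5
    have h6 : c ^ 3 ^ k = 1 := by
      have h7 : (1 : F) • w = c ^ 3 ^ k • w := by rw [one_smul]; exact h5
      exact (smul_left_injective F hw0 h7).symm
    rw [hx, hno c h4 ⟨k, h6⟩, one_smul]
  -- the vector
  have hσw : σ (h w w) = h w w := (H.sym w w).symm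
  obtain ⟨t, ht⟩ := exists_trace H hσ1 hσw
  obtain ⟨y, hy⟩ : ∃ y : F, y * h e f = t := ⟨t / h e f, div_mul_cancel₀ _ hef⟩
  refine ⟨y • e + f + w, ?_, ?_, ?_, ?_⟩
  · intro h1
    have h2 : h (y • e + f + w) w = h 0 w := by rw [h1]
    rw [H.add, H.add, H.smul, hew, hfw, H.zero_left, mul_zero, add_zero, zero_add] at h2
    exact hww h2
  · simp only [H.add, H.add_right, H.smul, H.smul_right, hee, hff, hew, hfw, hwe, hwf]
    rw [H.sym e f]
    have h1 : σ t = σ y * σ (h e f) := by rw [← hy, map_mul]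
    linear_combination ht - h1 + hy
  · intro r hr hrv
    obtain ⟨α, β, hα, hβ, hw, hαβ⟩ := hact r hr
    rw [map_add, map_add, map_smul, hα, hβ, hw] at hrv
    have h1 : h (y • α • e + β • f + w) e = h (y • e + f + w) e := by rw [hrv]
    rw [H.add, H.add, H.add, H.add, H.smul, H.smul, H.smul, H.smul, hee, hwe] at h1
    have hβ1 : β = 1 := mul_right_cancel₀ hfe (by linear_combination h1)
    rw [hβ1, map_one, mul_one] at hαβ
    ext x
    obtain ⟨a, b, c, rfl⟩ := hco x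
    rw [map_add, map_add, map_smul, map_smul, map_smul, hα, hβ, hw, hβ1, hαβ, one_smul, one_smul]
    rfl
  · intro r hr _ hv
    exfalso
    obtain ⟨α, β, hα, hβ, hw, -⟩ := hact r hr
    obtain ⟨x, hx⟩ := hv
    obtain ⟨a, b, c, rfl⟩ := hco x
    have h1 : h ((r : E →ₗ[F] E) (a • e + b • f + c • w) - (a • e + b • f + c • w)) w
        = h (y • e + f + w) w := by
      rw [← hx]; rfl
    have h2 : (r : E →ₗ[F] E) (a • e + b • f + c • w) - (a • e + b • f + c • w)
        = (a * α - a) • e + (b * β - b) • f := by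
      change r (a • e + b • f + c • w) - _ = _
      rw [map_add, map_add, map_smul, map_smul, map_smul, hα, hβ, hw]; module
    rw [h2, H.add, H.add, H.add, H.smul, H.smul, H.smul, hew, hfw, mul_zero, mul_zero, mul_zero,
      add_zero, zero_add] at h1
    exact hww h1.symm

/-- **Task 1593 (S2484).** `PSU₃(q)` at `p = 3`, `3 ∤ q (q + 1)`. -/
theorem meet3_PSU3_ab {q : ℕ} {F : Type} [Field F] [Fintype F] (hF : Fintype.card F = q ^ 2)
    (h3 : (3 : F) ≠ 0) (h : ¬ 3 ∣ q + 1) : Cfsg.Agent.H903.SylMeet.Meet 3 (Cfsg.PSU 3 F q) := by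
  have hp3 : Fact (Nat.Prime 3) := ⟨by norm_num⟩
  have hq1 : 1 < q := by
    by_contra hcon
    have : q = 0 ∨ q = 1 := by omega
    have h2 : 1 < Fintype.card F := Fintype.one_lt_card
    rcases this with rfl | rfl
    · rw [hF] at h2; omega
    · rw [hF] at h2; omega
  have hq3 : ¬ 3 ∣ q := by
    intro h1
    apply h3
    obtain ⟨r, hr⟩ := CharP.exists F
    have hrp : r.Prime := CharP.char_is_prime F r
    have : Fact r.Prime := ⟨hrp⟩
    obtain ⟨n, -, hn⟩ := FiniteField.card F r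
    rw [hF] at hn
    have h4 : 3 ∣ r ^ (n : ℕ) := by
      rw [← hn]; exact dvd_pow h1 two_ne_zero
    have h5 : 3 = r := (Nat.prime_dvd_prime_iff_eq (by norm_num) hrp).1
      ((by norm_num : Nat.Prime 3).dvd_of_dvd_pow h4)
    have h6 : ((r : ℕ) : F) = 0 := CharP.cast_eq_zero F r
    rw [← h5] at h6
    exact_mod_cast h6
  have hq : 3 ∣ q - 1 := by omega
  refine Cfsg.Agent.H868.MeetOddPSU.meet_PSU le_rfl hF le_rfl (by omega) ?_
  refine sepSU_of_reg le_rfl hF le_rfl fun σ hσ hσ2 hσ1 => ?_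
  have H : Herm σ (Cfsg.hermForm 3 F q) := herm_std hσ hσ2 (by omega)
  obtain ⟨g, hg⟩ := IsCyclic.exists_generator (α := Fˣ)
  have hgo : orderOf g = q ^ 2 - 1 := by
    rw [orderOf_eq_card_of_forall_mem_zpowers hg, Nat.card_units, Nat.card_eq_fintype_card, hF]
  obtain ⟨m, hm⟩ := hq
  have hqm : q = 3 * m + 1 := by omega
  have hm0 : 0 < m := by omega
  have hfac : q ^ 2 - 1 = 3 * (m * (q + 1)) := by
    have : q ^ 2 = 3 * (m * (q + 1)) + 1 := by rw [hqm]; ring
    omega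
  have hω3 : (g ^ (m * (q + 1))) ^ 3 = 1 := by
    rw [← pow_mul, mul_comm, ← hfac, ← hgo, pow_orderOf_eq_one]
  have hω1 : g ^ (m * (q + 1)) ≠ 1 := by
    intro h1
    have h2 := Nat.le_of_dvd (Nat.mul_pos hm0 (by omega)) (orderOf_dvd_of_pow_eq_one h1)
    rw [hgo, hfac] at h2
    have := Nat.mul_pos hm0 (show 0 < q + 1 by omega)
    omega
  have hω3' : ((g ^ (m * (q + 1)) : Fˣ) : F) ^ 3 = 1 := by
    have := congrArg (fun u : Fˣ => (u : F)) hω3
    simpa using this
  have hω1' : ((g ^ (m * (q + 1)) : Fˣ) : F) ≠ 1 := fun h1 => hω1 (Units.ext h1)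
  refine reg_three H hσ1 (by simp) h3 (ω := ((g ^ (m * (q + 1)) : Fˣ) : F)) ?_ ?_ ?_
  · have h1 : (((g ^ (m * (q + 1)) : Fˣ) : F) - 1) *
        (((g ^ (m * (q + 1)) : Fˣ) : F) ^ 2 + ((g ^ (m * (q + 1)) : Fˣ) : F) + 1) = 0 := by
      linear_combination hω3'
    exact (mul_eq_zero.1 h1).resolve_left (sub_ne_zero.2 hω1')
  · have h1 : ∀ x : F, x ^ 3 = 1 → x ^ q = x := fun x hx => by
      rw [hqm, pow_succ, pow_mul, hx, one_pow, one_mul]
    rw [hσ, h1 _ hω3']
  · intro a ha hk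
    obtain ⟨k, hk⟩ := hk
    rw [hσ, ← pow_succ'] at ha
    have h1 : orderOf a ∣ q + 1 := orderOf_dvd_of_pow_eq_one ha
    have h2 : orderOf a ∣ 3 ^ k := orderOf_dvd_of_pow_eq_one hk
    have h4 : Nat.Coprime (3 ^ k) (q + 1) :=
      Nat.Coprime.pow_left _ (((by norm_num : Nat.Prime 3).coprime_iff_not_dvd).2 h)
    exact orderOf_eq_one_iff.1 (Nat.eq_one_of_dvd_coprimes h4 h2 h1)

end three

end Cfsg.Agent.H479.SepSU3
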